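import Mathlib

/-!
# Unpacking of tables
-/

set_option autoImplicit false

namespace CfsgLib.LeechPSU

/-- A coefficient list from its packed form, sixteen binary digits per entry,
offset by `32768`, above sixty-four digits that only spread out the codes. -/
noncomputable def decVec (c : ℕ) : List ℤ :=
  (List.range 24).map fun i => Int.subNatNat (Nat.mod (Nat.shiftRight c (16 * i + 64)) 65536) 32768

/-- A point from its packed form, eight binary digits per entry. -/
noncomputable def decPt (n c : ℕ) : List ℕ :=
  (List.range n).map fun i => Nat.mod (Nat.shiftRight c (8 * i)) 256

end CfsgLib.LeechPSU
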