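import Cfsg.Agent.Lib.LeechPSU.Perm
import Cfsg.Agent.Lib.Rigid.Make

/-!
# Stabilisers in the automorphism group of the lattice as permutation groups
-/

set_option autoImplicit false

namespace CfsgLib.LeechPSU

open Cfsg CfsgLib.Leech CfsgLib.Rigid
open scoped Pointwise

/-- The vector with given coefficients. -/
noncomputable def vecB (B : Basis) (c : List ℤ) : leechLattice := ∑ i : Fin 24, c.getD i.val 0 • B.e i

theorem innerL_vecB (B : Basis) (c : List ℤ) (j : Fin 24) : innerL (B.d j) (vecB B c) = c.getD j.val 0 := by
  rw [vecB, map_sum, Finset.sum_eq_single j]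
  · rw [map_zsmul, B.ortho, if_pos rfl, smul_eq_mul, mul_one]
  · intro i _ hi; rw [map_zsmul, B.ortho, if_neg (Ne.symm hi), smul_zero]
  · simp

theorem vecB_inj (B : Basis) {c c' : List ℤ} (hc : c.length = 24) (hc' : c'.length = 24)
    (h : vecB B c = vecB B c') : c = c' :=
  List.ext_getElem (hc.trans hc'.symm) fun i hi hi' => by
    have e := congrArg (innerL (B.d ⟨i, hc ▸ hi⟩)) h
    rwa [innerL_vecB, innerL_vecB, List.getD_eq_getElem _ _ hi, List.getD_eq_getElem _ _ hi'] at e

/-- The base of the packing of coefficient lists. -/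
def packBase : ℤ := 1099511627776

/-- A coefficient list as one integer. -/
def packZ (c : List ℤ) : ℤ := c.foldr (fun x r => x + packBase * r) 0

/-- The entries are small. -/
noncomputable def boundOk (c : List ℤ) : Bool := c.all fun x => Nat.ble x.natAbs 32768

/-- The rows of a matrix have the right length and small entries. -/
noncomputable def rowsOk (N : List (List ℤ)) : Bool :=
  decide (N.length = 24) && N.all fun r => decide (r.length = 24) && boundOk r

/-- Packed rows carry one coefficient list to another. -/
noncomputable def moveOk (P : List ℤ) (c c' : List ℤ) : Bool :=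
  decide (c.length = 24) && decide (c'.length = 24) && boundOk c && boundOk c' &&
    dotList c P == packZ c'

theorem packZ_ofFn : ∀ {n : ℕ} (f : Fin n → ℤ), packZ (List.ofFn f) = ∑ k, f k * packBase ^ (k : ℕ) := by
  intro n
  induction n with
  | zero => intro f; simp [packZ]
  | succ n ih =>
    intro f
    rw [List.ofFn_succ, packZ, List.foldr_cons, ← packZ, ih, Fin.sum_univ_succ, Finset.mul_sum]
    simp only [Fin.val_zero, pow_zero, mul_one, Fin.val_succ, pow_succ]
    congr 1
    exact Finset.sum_congr rfl fun k _ => by ring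

theorem packZ_inj : ∀ {a b : List ℤ}, a.length = b.length → (∀ x ∈ a, x.natAbs < 549755813888) →
    (∀ x ∈ b, x.natAbs < 549755813888) → packZ a = packZ b → a = b := by
  intro a
  induction a with
  | nil =>
    intro b h _ _ _
    exact (List.length_eq_zero_iff.1 h.symm).symm
  | cons x a ih =>
    intro b h ha hb e
    cases b with
    | nil => simp at h
    | cons y b =>
      have e' : x + packBase * packZ a = y + packBase * packZ b := e
      have hx := ha x List.mem_cons_self
      have hy := hb y List.mem_cons_self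
      have hr : packZ a = packZ b := by unfold packBase at e'; omega
      have hxy : x = y := by rw [hr] at e'; omega
      rw [hxy, ih (by simpa using h) (fun z hz => ha z (List.mem_cons_of_mem _ hz))
        (fun z hz => hb z (List.mem_cons_of_mem _ hz)) hr]

theorem smul_vecB {B : Basis} {g : Co0} {N : List (List ℤ)} (hg : ∀ x, g • x = B.linMap N x)
    (hN : rowsOk N = true) {c c' : List ℤ} (h : moveOk (N.map packZ) c c' = true) :
    g • vecB B c = vecB B c' := by
  simp only [rowsOk, moveOk, boundOk, Bool.and_eq_true, decide_eq_true_eq, List.all_eq_true, Nat.ble_eq,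
    beq_iff_eq] at hN h
  obtain ⟨hl, hr⟩ := hN
  obtain ⟨⟨⟨⟨hc, hc'⟩, hcb⟩, hc'b⟩, hk⟩ := h
  refine B.smul_of_coords hg c c' (innerL_vecB B c) (innerL_vecB B c') fun k => ?_
  have hrow : ∀ j : Fin 24, ∃ r ∈ N, N.getD j.val [] = r := fun j => by
    have hj : j.val < N.length := by have := j.isLt; omega
    exact ⟨N[j.val], List.getElem_mem hj, List.getD_eq_getElem _ _ hj⟩
  have hentB : ∀ j k : Fin 24, (Basis.ent N j k).natAbs ≤ 32768 := fun j k => by
    obtain ⟨r, hrm, e⟩ := hrow j
    obtain ⟨hlen, hb⟩ := hr r hrm
    rw [Basis.ent, e, List.getD_eq_getElem _ _ (by have := k.isLt; omega)]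
    exact hb _ (List.getElem_mem _)
  have hcB : ∀ j : Fin 24, (c.getD j.val 0).natAbs ≤ 32768 := fun j => by
    rw [List.getD_eq_getElem _ _ (by have := j.isLt; omega)]
    exact hcb _ (List.getElem_mem _)
  let f : Fin 24 → ℤ := fun k => ∑ j : Fin 24, c.getD j.val 0 * Basis.ent N j k
  have hdot : dotList c (N.map packZ) = packZ (List.ofFn f) := by
    rw [dotList_getD hc (by simpa using hl), packZ_ofFn]
    simp only [f, Finset.sum_mul]
    rw [Finset.sum_comm]
    refine Finset.sum_congr rfl fun j _ => ?_
    have hj : j.val < N.length := by have := j.isLt; omega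
    obtain ⟨hlen, -⟩ := hr _ (List.getElem_mem hj)
    have e : N[j.val] = List.ofFn fun k : Fin 24 => Basis.ent N j k := by
      refine List.ext_getElem (by simpa using hlen) fun i h1 h2 => ?_
      simp only [List.getElem_ofFn, Basis.ent]
      rw [List.getD_eq_getElem N [] hj, List.getD_eq_getElem _ _ h1]
    rw [List.getD_eq_getElem (N.map packZ) _ (by simpa using hj), List.getElem_map, e, packZ_ofFn,
      Finset.mul_sum]
    exact Finset.sum_congr rfl fun k _ => by ring
  have hf : ∀ k, (f k).natAbs < 549755813888 := fun k => by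
    calc (f k).natAbs ≤ ∑ j : Fin 24, (c.getD j.val 0 * Basis.ent N j k).natAbs := Int.natAbs_sum_le _ _
      _ ≤ ∑ _j : Fin 24, 32768 * 32768 := Finset.sum_le_sum fun j _ => by
          rw [Int.natAbs_mul]; exact Nat.mul_le_mul (hcB j) (hentB j k)
      _ < 549755813888 := by simp
  have key : List.ofFn f = c' := packZ_inj (by simp [hc']) (fun x hx => by
      obtain ⟨k, rfl⟩ := List.mem_ofFn.1 hx
      exact hf k) (fun x hx => (hc'b x hx).trans_lt (by norm_num)) (hdot.symm.trans hk)
  rw [← key, List.getD_eq_getElem _ _ (by simp), List.getElem_ofFn]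

/-- The mask of a list of numbers. -/
noncomputable def maskL (l : List ℕ) : ℕ := l.foldr (fun i r => r ||| 2 ^ i) 0

theorem testBit_maskL (l : List ℕ) (j : ℕ) : (maskL l).testBit j = true ↔ j ∈ l := by
  induction l with
  | nil => simp [maskL]
  | cons i l ih =>
    rw [maskL, List.foldr_cons, ← maskL, Nat.testBit_or, Bool.or_eq_true, ih, Nat.testBit_two_pow,
      decide_eq_true_eq, List.mem_cons, eq_comm (a := i)]
    tauto

theorem mem_iff_of_maskL_eq {l l' : List ℕ} (h : maskL l = maskL l') (j : ℕ) : j ∈ l ↔ j ∈ l' := by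
  rw [← testBit_maskL, h, testBit_maskL]

/-- The data of one generator: matrix, inverse, matrix times Gram matrix, the code on the vectors and
the code on the points. -/
structure Gen where
  /-- The matrix. -/
  N : List (List ℤ)
  /-- The inverse. -/
  N' : List (List ℤ)
  /-- The product with the Gram matrix. -/
  NG : List (List ℤ)
  /-- The code of the permutation of the vectors. -/
  vcode : ℕ
  /-- The code of the permutation of the points. -/
  pcode : ℕ

/-- A key of a coefficient list. -/
def keyZ (c : List ℤ) : ℤ := c.foldr (fun x r => x + 16777216 * r) 0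

/-- The keys increase. -/
def incOk : List ℤ → Bool
  | [] => true
  | [_] => true
  | a :: b :: l => decide (a < b) && incOk (b :: l)

theorem incOk_sound : ∀ l : List ℤ, incOk l = true → l.Pairwise (· < ·) := by
  intro l h
  rw [← List.isChain_iff_pairwise]
  induction l with
  | nil => exact List.IsChain.nil
  | cons a l ih =>
    cases l with
    | nil => exact List.IsChain.singleton a
    | cons b l =>
      simp only [incOk, Bool.and_eq_true, decide_eq_true_eq] at h
      exact List.IsChain.cons_cons h.1 (ih h.2)

/-- The vectors are distinct coefficient lists. -/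
noncomputable def vecsOk (vecs : List (List ℤ)) : Bool :=
  vecs.all (fun c => decide (c.length = 24)) && incOk (vecs.map keyZ)

/-- The largest mask among the blocks of a point. -/
noncomputable def maxMask (bl : List (List ℕ)) : ℕ := (bl.map maskL).foldr max 0

theorem maxMask_le {bl : List (List ℕ)} {k : ℕ} (h : ∀ l ∈ bl, maskL l ≤ k) : maxMask bl ≤ k := by
  induction bl with
  | nil => exact Nat.zero_le _
  | cons l bl ih =>
    exact max_le (h l List.mem_cons_self) (ih fun x hx => h x (List.mem_cons_of_mem _ hx))

theorem le_maxMask {bl : List (List ℕ)} {l : List ℕ} (h : l ∈ bl) : maskL l ≤ maxMask bl := by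
  induction bl with
  | nil => simp at h
  | cons x bl ih =>
    rcases List.mem_cons.1 h with rfl | h
    · exact le_max_left _ _
    · exact (ih h).trans (le_max_right _ _)

/-- The points are sets of blocks of vectors, listed by increasing largest mask. -/
noncomputable def blocksOk (n : ℕ) (blocks : List (List (List ℕ))) : Bool :=
  (blocks.all fun bl => bl.all fun l => l.all fun i => decide (i < n)) &&
    incOk (blocks.map fun bl => Int.ofNat (maxMask bl))

/-- A generator moves the fixed vectors, the vectors and the points as stated. -/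
noncomputable def genOk (G : List (List ℤ)) (fixed vecs : List (List ℤ)) (blocks : List (List (List ℕ)))
    (g : Gen) : Bool :=
  Basis.autTest G g.N g.N' g.NG && rowsOk g.N && fixed.all (fun c => moveOk (g.N.map packZ) c c) &&
    ((List.range vecs.length).all fun a =>
      decide (fieldAt g.vcode a < vecs.length) &&
        moveOk (g.N.map packZ) (fastGet vecs [] a) (fastGet vecs [] (fieldAt g.vcode a))) &&
    (List.range blocks.length).all fun b =>
      decide (fieldAt g.pcode b < blocks.length) &&
        ((fastGet blocks [] b).all fun l => (fastGet blocks [] (fieldAt g.pcode b)).any fun t =>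
          Nat.beq (maskL (l.map (fieldAt g.vcode))) (maskL t)) &&
        ((fastGet blocks [] (fieldAt g.pcode b)).all fun t => (fastGet blocks [] b).any fun l =>
          Nat.beq (maskL (l.map (fieldAt g.vcode))) (maskL t))

/-- A block as a set of vectors. -/
noncomputable def blockSet (B : Basis) (vecs : List (List ℤ)) (l : List ℕ) : Finset leechLattice := by
  classical
  exact l.toFinset.image fun i => vecB B (vecs.getD i [])

/-- A point as a set of blocks. -/
noncomputable def pointSet (B : Basis) (vecs : List (List ℤ)) (bl : List (List ℕ)) :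
    Finset (Finset leechLattice) := by
  classical
  exact (bl.map (blockSet B vecs)).toFinset

variable {B : Basis} {vecs : List (List ℤ)}

theorem mem_blockSet {l : List ℕ} {x : leechLattice} :
    x ∈ blockSet B vecs l ↔ ∃ i ∈ l, vecB B (vecs.getD i []) = x := by
  classical
  simp [blockSet]

theorem mem_pointSet {bl : List (List ℕ)} {X : Finset leechLattice} :
    X ∈ pointSet B vecs bl ↔ ∃ l ∈ bl, blockSet B vecs l = X := by
  classical
  simp [pointSet]

theorem blockSet_congr {l l' : List ℕ} (h : maskL l = maskL l') : blockSet B vecs l = blockSet B vecs l' := by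
  ext x
  simp only [mem_blockSet, mem_iff_of_maskL_eq h]

theorem maskL_of_blockSet (hv : vecsOk vecs = true) {l l' : List ℕ} (hl : ∀ i ∈ l, i < vecs.length)
    (hl' : ∀ i ∈ l', i < vecs.length) (h : blockSet B vecs l = blockSet B vecs l') :
    maskL l = maskL l' := by
  simp only [vecsOk, Bool.and_eq_true, List.all_eq_true, decide_eq_true_eq] at hv
  have hp : (vecs.map keyZ).Nodup := (incOk_sound _ hv.2).imp fun hlt => hlt.ne
  have inj : ∀ i < vecs.length, ∀ j < vecs.length,
      vecB B (vecs.getD i []) = vecB B (vecs.getD j []) → i = j := by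
    intro i hi j hj e
    rw [List.getD_eq_getElem _ _ hi, List.getD_eq_getElem _ _ hj] at e
    have e' := vecB_inj B (hv.1 _ (List.getElem_mem hi)) (hv.1 _ (List.getElem_mem hj)) e
    exact ((List.Nodup.of_map _ hp).getElem_inj_iff).1 e'
  have sub : ∀ {a b : List ℕ}, (∀ i ∈ a, i < vecs.length) → (∀ i ∈ b, i < vecs.length) →
      blockSet B vecs a = blockSet B vecs b → ∀ i ∈ a, i ∈ b := by
    intro a b ha hb e i hi
    have : vecB B (vecs.getD i []) ∈ blockSet B vecs b := e ▸ mem_blockSet.2 ⟨i, hi, rfl⟩
    obtain ⟨j, hj, ej⟩ := mem_blockSet.1 this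
    rwa [inj j (hb j hj) i (ha i hi) ej] at hj
  refine Nat.eq_of_testBit_eq fun j => Bool.eq_iff_iff.2 ?_
  rw [testBit_maskL, testBit_maskL]
  exact ⟨sub hl hl' h j, sub hl' hl h.symm j⟩

/-- The action on sets of sets of lattice vectors. -/
noncomputable def blockHom (H : Subgroup Co0) : H →* Equiv.Perm (Finset (Finset leechLattice)) := by
  classical
  exact (MulAction.toPermHom Co0 (Finset (Finset leechLattice))).comp H.subtype

theorem nonempty_stab_equiv {G : List (List ℤ)} (hG : ∀ i j, innerL (B.e i) (B.e j) = Basis.ent G i j)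
    (H : Subgroup Co0) [Finite H] (fixed : List (List ℤ))
    (hH : ∀ g : Co0, (∀ c ∈ fixed, g • vecB B c = vecB B c) → g ∈ H)
    (blocks : List (List (List ℕ))) {m : ℕ} (hm : blocks.length = m) (gens : List Gen)
    (hv : vecsOk vecs = true) (hb : blocksOk vecs.length blocks = true)
    (hg : gens.all (genOk G fixed vecs blocks) = true) {codes : List ℕ} (hcodes : gens.map Gen.pcode = codes)
    {N : ℕ} (C : Cert) (hC : C.ok m codes N = true) (hcard : Nat.card H ≤ N) :
    Nonempty (H ≃* permGroup m codes) := by
  classical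
  subst hm
  simp only [blocksOk, Bool.and_eq_true, List.all_eq_true, decide_eq_true_eq] at hb
  obtain ⟨hlt, hinc⟩ := hb
  have hnd : (blocks.map maxMask).Nodup := by
    have h : ((blocks.map maxMask).map Int.ofNat).Nodup := by
      rw [List.map_map]
      exact (incOk_sound _ hinc).imp fun hlt => hlt.ne
    exact h.of_map _
  refine (nonempty_equiv_permGroup (blockHom H) (⊥ : Subgroup H)
    (fun b : Fin blocks.length => pointSet B vecs blocks[b.val]) (fun a b e => ?_) (fun z hz a => ?_)
    C hC (fun P hP => ?_) (by rwa [Subgroup.card_bot, mul_one])).1.map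
      fun φ => QuotientGroup.quotientBot.symm.trans φ
  · dsimp only at e
    have key : ∀ {p q : List (List ℕ)}, p ∈ blocks → q ∈ blocks → pointSet B vecs p = pointSet B vecs q →
        maxMask p ≤ maxMask q := fun {p q} hp hq h => maxMask_le fun l hl => by
      have hmem : blockSet B vecs l ∈ pointSet B vecs q := h ▸ mem_pointSet.2 ⟨l, hl, rfl⟩
      obtain ⟨l', hl', el⟩ := mem_pointSet.1 hmem
      rw [← maskL_of_blockSet hv (hlt q hq l' hl') (hlt p hp l hl) el]
      exact le_maxMask hl'
    have ha := List.getElem_mem (l := blocks) (n := a.val) a.isLt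
    have hb' := List.getElem_mem (l := blocks) (n := b.val) b.isLt
    have e' := le_antisymm (key ha hb' e) (key hb' ha e.symm)
    have h1 : (blocks.map maxMask)[a.val]'(by simp) = (blocks.map maxMask)[b.val]'(by simp) := by
      rw [List.getElem_map, List.getElem_map]; exact e'
    exact Fin.ext ((hnd.getElem_inj_iff).1 h1)
  · rw [Subgroup.mem_bot.1 hz, map_one]; rfl
  · subst hcodes
    obtain ⟨g, hgm, rfl⟩ := List.mem_map.1 hP
    have hok := List.all_eq_true.1 hg g hgm
    simp only [genOk, Bool.and_eq_true, List.all_eq_true, List.mem_range, decide_eq_true_eq,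
      List.any_eq_true, Nat.beq_eq] at hok
    obtain ⟨⟨⟨⟨haut, htr⟩, hfix⟩, hvec⟩, hblk⟩ := hok
    obtain ⟨k, hk⟩ := B.exists_aut hG haut
    have hvec' : ∀ a < vecs.length, k • vecB B (vecs.getD a []) = vecB B (vecs.getD (fieldAt g.vcode a) []) :=
      fun a ha => by
        obtain ⟨h1, h2⟩ := hvec a ha
        rw [fastGet_eq _ _ ha, fastGet_eq _ _ h1] at h2
        exact smul_vecB hk htr h2
    have hkH : k ∈ H := hH k fun c hc => smul_vecB hk htr (hfix c hc)
    refine ⟨⟨k, hkH⟩, fun b => ?_⟩
    obtain ⟨⟨hpb, h1⟩, h2⟩ := hblk b.val b.isLt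
    refine ⟨⟨_, hpb⟩, rfl, ?_⟩
    show k • pointSet B vecs blocks[b.val] = pointSet B vecs blocks[fieldAt g.pcode b.val]
    rw [fastGet_eq _ _ b.isLt, fastGet_eq _ _ hpb, List.getD_eq_getElem _ _ b.isLt,
      List.getD_eq_getElem _ _ hpb] at h1 h2
    have step : ∀ l ∈ blocks[b.val], k • blockSet B vecs l = blockSet B vecs (l.map (fieldAt g.vcode)) := by
      intro l hl
      ext x
      simp only [Finset.mem_smul_finset, mem_blockSet, List.mem_map]
      have hi : ∀ i ∈ l, i < vecs.length := hlt _ (List.getElem_mem b.isLt) l hl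
      constructor
      · rintro ⟨_, ⟨i, hi', rfl⟩, rfl⟩
        exact ⟨_, ⟨i, hi', rfl⟩, (hvec' i (hi i hi')).symm⟩
      · rintro ⟨_, ⟨i, hi', rfl⟩, rfl⟩
        exact ⟨_, ⟨i, hi', rfl⟩, hvec' i (hi i hi')⟩
    ext X
    rw [Finset.mem_smul_finset, mem_pointSet]
    constructor
    · rintro ⟨Y, hY, rfl⟩
      obtain ⟨l, hl, rfl⟩ := mem_pointSet.1 hY
      obtain ⟨t, ht, et⟩ := h1 l hl
      exact ⟨t, ht, by rw [step l hl, blockSet_congr et]⟩
    · rintro ⟨t, ht, rfl⟩
      obtain ⟨l, hl, et⟩ := h2 t ht
      exact ⟨blockSet B vecs l, mem_pointSet.2 ⟨l, hl, rfl⟩, by rw [step l hl, blockSet_congr et]⟩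

end CfsgLib.LeechPSU
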