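import Mathlib

/-!
# Lower bounds for permutation groups from packed certificates, and groups acting as one of them

A permutation of `Fin m` (`m ≤ 1024`) is packed into one number, ten binary digits per point.
-/

set_option autoImplicit false

namespace CfsgLib.LeechPSU

/-- The image of a point under a packed permutation. -/
noncomputable def fieldAt (P a : ℕ) : ℕ := Nat.mod (Nat.shiftRight P (Nat.mul 10 a)) 1024

/-- A list cut into pieces of length 32. -/
def pieces {α : Type*} : ℕ → List α → List (List α)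
  | 0, _ => []
  | n + 1, l => l.take 32 :: pieces n (l.drop 32)

/-- Access through the pieces. -/
noncomputable def fastGet {α : Type*} (l : List α) (d : α) (i : ℕ) : α :=
  ((pieces (l.length / 32 + 1) l).getD (i / 32) []).getD (i % 32) d

theorem fastGet_eq {α : Type*} (l : List α) (d : α) {i : ℕ} (hi : i < l.length) :
    fastGet l d i = l.getD i d := by
  have key : ∀ (n : ℕ) (l : List α) (i : ℕ), i / 32 < n → i < l.length →
      ((pieces n l).getD (i / 32) []).getD (i % 32) d = l.getD i d := by
    intro n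
    induction n with
    | zero => intro l i h _; exact absurd h (Nat.not_lt_zero _)
    | succ n ih =>
      intro l i h hi
      rcases Nat.lt_or_ge i 32 with h32 | h32
      · rw [Nat.div_eq_of_lt h32, Nat.mod_eq_of_lt h32, pieces, List.getD_cons_zero,
          List.getD_eq_getElem _ _ (by simp; omega), List.getElem_take, List.getD_eq_getElem _ _ hi]
      · obtain ⟨j, rfl⟩ : ∃ j, i = j + 32 := ⟨i - 32, by omega⟩
        rw [Nat.add_div_right j (by norm_num), Nat.add_mod_right, pieces, List.getD_cons_succ,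
          ih (l.drop 32) j (by omega) (by simp; omega),
          List.getD_eq_getElem _ _ (by simp; omega), List.getElem_drop, List.getD_eq_getElem _ _ hi]
        simp only [Nat.add_comm 32 j]
  exact key _ l i (by omega) hi

variable {m : ℕ}

/-- A permutation has a given code. -/
def IsCode (P : ℕ) (σ : Equiv.Perm (Fin m)) : Prop := ∀ a : Fin m, (σ a : ℕ) = fieldAt P a

theorem isCode_unique {P : ℕ} {σ τ : Equiv.Perm (Fin m)} (h : IsCode P σ) (h' : IsCode P τ) : σ = τ :=
  Equiv.ext fun a => Fin.ext ((h a).trans (h' a).symm)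

/-- The group generated by the permutations with given codes. -/
def permGroup (m : ℕ) (codes : List ℕ) : Subgroup (Equiv.Perm (Fin m)) :=
  Subgroup.closure {σ | ∃ P ∈ codes, IsCode P σ}

/-- A step of a straight-line program: the code is the product of two known ones. -/
noncomputable def stepOk (m : ℕ) (known : List ℕ) (o : ℕ × ℕ × ℕ) : Bool :=
  decide (o.1 < known.length) && decide (o.2.1 < known.length) &&
    (List.range m).all fun a =>
      Nat.beq (fieldAt o.2.2 a) (fieldAt (known.getD o.1 0) (fieldAt (known.getD o.2.1 0) a))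

/-- The check of a straight-line program. -/
noncomputable def slpOk (m : ℕ) : List (ℕ × ℕ × ℕ) → List ℕ → Bool
  | [], _ => true
  | o :: os, known => stepOk m known o && slpOk m os (known ++ [o.2.2])

/-- A level: the base point, the numbers of its generators, and a tree of (parent, generator). -/
structure Level where
  /-- The base point. -/
  base : ℕ
  /-- The generators. -/
  gens : List ℕ
  /-- The tree. -/
  tree : List (ℕ × ℕ)

/-- The check of a tree, recording the points seen. -/
noncomputable def treeOk (m : ℕ) (gens : List ℕ) : List (ℕ × ℕ) → ℕ → Bool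
  | [], _ => true
  | (p, k) :: es, seen =>
    decide (p < m) && decide (k < gens.length) && seen.testBit p &&
      !seen.testBit (fieldAt (gens.getD k 0) p) &&
      treeOk m gens es (seen ||| 2 ^ fieldAt (gens.getD k 0) p)

/-- The check of a level. -/
noncomputable def levelOk (m : ℕ) (known fixed : List ℕ) (L : Level) : Bool :=
  decide (L.base < m) &&
    (L.gens.all fun i => decide (i < known.length) &&
      fixed.all fun x => Nat.beq (fieldAt (known.getD i 0) x) x) &&
    treeOk m (L.gens.map fun i => known.getD i 0) L.tree (2 ^ L.base)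

/-- The check of a chain. -/
noncomputable def chainOk (m : ℕ) (known : List ℕ) : List ℕ → List Level → Bool
  | _, [] => true
  | fixed, L :: Ls => levelOk m known fixed L && chainOk m known (L.base :: fixed) Ls

/-- The product of the orbit lengths. -/
def chainSize : List Level → ℕ
  | [] => 1
  | L :: Ls => (L.tree.length + 1) * chainSize Ls

theorem slp_sound {K : Subgroup (Equiv.Perm (Fin m))} :
    ∀ (os : List (ℕ × ℕ × ℕ)) (known : List ℕ), (∀ P ∈ known, ∃ σ ∈ K, IsCode P σ) →
      slpOk m os known = true → ∀ P ∈ known ++ os.map (fun o => o.2.2), ∃ σ ∈ K, IsCode P σ := by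
  intro os
  induction os with
  | nil => intro known hk _ P hP; exact hk P (by simpa using hP)
  | cons o os ih =>
    intro known hk hok P hP
    simp only [slpOk, Bool.and_eq_true] at hok
    refine ih (known ++ [o.2.2]) ?_ hok.2 P (by simpa using hP)
    intro Q hQ
    rcases List.mem_append.1 hQ with hQ | hQ
    · exact hk Q hQ
    rw [List.mem_singleton] at hQ
    subst hQ
    have ho := hok.1
    simp only [stepOk, Bool.and_eq_true, decide_eq_true_eq, List.all_eq_true, List.mem_range,
      Nat.beq_eq] at ho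
    obtain ⟨⟨hi, hj⟩, he⟩ := ho
    rw [List.getD_eq_getElem _ _ hi, List.getD_eq_getElem _ _ hj] at he
    obtain ⟨σ, hσ, cσ⟩ := hk _ (List.getElem_mem hi)
    obtain ⟨τ, hτ, cτ⟩ := hk _ (List.getElem_mem hj)
    exact ⟨σ * τ, K.mul_mem hσ hτ, fun a => by rw [Equiv.Perm.mul_apply, cσ, cτ, he _ a.isLt]⟩

theorem tree_sound {gens : List ℕ} {O : Set (Fin m)}
    (hg : ∀ k (_ : k < gens.length) (a : Fin m), a ∈ O → ∃ b ∈ O, (b : ℕ) = fieldAt (gens.getD k 0) a) :
    ∀ (es : List (ℕ × ℕ)) (seen : ℕ) (s : Finset (Fin m)), (∀ a ∈ s, a ∈ O) →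
      (∀ a : Fin m, seen.testBit a = true ↔ a ∈ s) → treeOk m gens es seen = true →
      ∃ t : Finset (Fin m), (∀ a ∈ t, a ∈ O) ∧ t.card = s.card + es.length := by
  classical
  intro es
  induction es with
  | nil => intro seen s hs _ _; exact ⟨s, hs, rfl⟩
  | cons e es ih =>
    intro seen s hs hbits hok
    obtain ⟨p, k⟩ := e
    simp only [treeOk, Bool.and_eq_true, decide_eq_true_eq, Bool.not_eq_true'] at hok
    obtain ⟨⟨⟨⟨hp, hk⟩, hsp⟩, hnew⟩, hrest⟩ := hok
    obtain ⟨b, hb, eb⟩ := hg k hk ⟨p, hp⟩ (hs _ ((hbits ⟨p, hp⟩).1 hsp))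
    simp only at eb
    have hbs : b ∉ s := fun h => by
      have := (hbits b).2 h
      rw [eb, hnew] at this
      exact absurd this (by simp)
    obtain ⟨t, ht, hc⟩ := ih _ (insert b s)
      (fun a ha => by
        rcases Finset.mem_insert.1 ha with rfl | ha
        · exact hb
        · exact hs a ha)
      (fun a => by
        rw [Nat.testBit_or, Bool.or_eq_true, hbits, Nat.testBit_two_pow, decide_eq_true_eq,
          Finset.mem_insert, Fin.ext_iff (a := a) (b := b), eb]
        tauto) hrest
    exact ⟨t, ht, by rw [hc, Finset.card_insert_of_notMem hbs, List.length_cons]; omega⟩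

/-- The elements of a group fixing some points. -/
def fixing (K : Subgroup (Equiv.Perm (Fin m))) (l : List ℕ) : Subgroup (Equiv.Perm (Fin m)) where
  carrier := {σ | σ ∈ K ∧ ∀ a : Fin m, (a : ℕ) ∈ l → σ a = a}
  one_mem' := ⟨K.one_mem, fun _ _ => rfl⟩
  mul_mem' := fun {σ τ} hσ hτ => ⟨K.mul_mem hσ.1 hτ.1, fun a ha => by
    rw [Equiv.Perm.mul_apply, hτ.2 a ha, hσ.2 a ha]⟩
  inv_mem' := fun {σ} hσ => ⟨K.inv_mem hσ.1, fun a ha => by
    rw [Equiv.Perm.inv_def, σ.symm_apply_eq, hσ.2 a ha]⟩

theorem chain_sound {K : Subgroup (Equiv.Perm (Fin m))} {known : List ℕ}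
    (hk : ∀ P ∈ known, ∃ σ ∈ K, IsCode P σ) :
    ∀ (Ls : List Level) (fixed : List ℕ), chainOk m known fixed Ls = true →
      chainSize Ls ≤ Nat.card (fixing K fixed) := by
  intro Ls
  induction Ls with
  | nil => intro fixed _; exact Nat.one_le_iff_ne_zero.2 Nat.card_pos.ne'
  | cons L Ls ih =>
    intro fixed hok
    simp only [chainOk, levelOk, Bool.and_eq_true, decide_eq_true_eq, List.all_eq_true, Nat.beq_eq] at hok
    obtain ⟨⟨⟨hb, hgen⟩, htree⟩, hrest⟩ := hok
    set H := fixing K fixed with hH
    set b : Fin m := ⟨L.base, hb⟩ with hbdef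
    have hg : ∀ k (_ : k < (L.gens.map fun i => known.getD i 0).length) (a : Fin m),
        a ∈ MulAction.orbit H b →
        ∃ c ∈ MulAction.orbit H b, (c : ℕ) = fieldAt ((L.gens.map fun i => known.getD i 0).getD k 0) a := by
      intro k hk' a ha
      rw [List.length_map] at hk'
      obtain ⟨hi, hfix⟩ := hgen _ (List.getElem_mem hk')
      obtain ⟨σ, hσ, cσ⟩ := hk _ (List.getElem_mem hi)
      rw [List.getD_eq_getElem _ _ hi] at hfix
      have hmem : σ ∈ H := ⟨hσ, fun x hx => Fin.ext ((cσ x).trans (hfix _ hx))⟩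
      refine ⟨σ a, ?_, ?_⟩
      · obtain ⟨τ, rfl⟩ := ha
        exact ⟨⟨σ, hmem⟩ * τ, rfl⟩
      · rw [List.getD_eq_getElem _ _ (by simpa using hk'), List.getElem_map,
          List.getD_eq_getElem _ _ hi]
        exact cσ a
    obtain ⟨t, ht, htc⟩ := tree_sound hg L.tree (2 ^ L.base) {b}
      (fun a ha => by rw [Finset.mem_singleton.1 ha]; exact MulAction.mem_orbit_self b)
      (fun a => by
        rw [Nat.testBit_two_pow, decide_eq_true_eq, Finset.mem_singleton, Fin.ext_iff, hbdef]
        exact eq_comm) htree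
    rw [Finset.card_singleton] at htc
    have horb : L.tree.length + 1 ≤ (MulAction.orbit H b).ncard := by
      rw [← Nat.add_comm 1, ← htc, ← Set.ncard_coe_finset]
      exact Set.ncard_le_ncard (fun a ha => ht a (Finset.mem_coe.1 ha)) (Set.toFinite _)
    have e : MulAction.stabilizer H b = (fixing K (L.base :: fixed)).subgroupOf H := by
      ext σ
      constructor
      · intro h
        refine ⟨σ.2.1, fun a ha => ?_⟩
        rcases List.mem_cons.1 ha with ha | ha
        · rw [show a = b from Fin.ext ha]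
          exact h
        · exact σ.2.2 a ha
      · intro h
        exact h.2 b List.mem_cons_self
    have hle : fixing K (L.base :: fixed) ≤ H := fun σ hσ =>
      ⟨hσ.1, fun a ha => hσ.2 a (List.mem_cons_of_mem _ ha)⟩
    have hcard := (MulAction.stabilizer H b).index_mul_card
    rw [MulAction.index_stabilizer] at hcard
    rw [← hcard, e, Nat.card_congr (Subgroup.subgroupOfEquivOfLe hle).toEquiv]
    exact Nat.mul_le_mul horb (ih _ hrest)

/-- The certificate of a lower bound. -/
structure Cert where
  /-- The straight-line program. -/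
  ops : List (ℕ × ℕ × ℕ)
  /-- The levels. -/
  levels : List Level

/-- The check of a certificate. -/
noncomputable def Cert.ok (C : Cert) (m : ℕ) (codes : List ℕ) (N : ℕ) : Bool :=
  slpOk m C.ops codes && chainOk m (codes ++ C.ops.map fun o => o.2.2) [] C.levels &&
    Nat.ble N (chainSize C.levels)

theorem le_card_permGroup {codes : List ℕ} {N : ℕ} (C : Cert) (h : C.ok m codes N = true)
    (hex : ∀ P ∈ codes, ∃ σ : Equiv.Perm (Fin m), IsCode P σ) : N ≤ Nat.card (permGroup m codes) := by
  simp only [Cert.ok, Bool.and_eq_true, Nat.ble_eq] at h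
  obtain ⟨⟨hs, hc⟩, hn⟩ := h
  have hk : ∀ P ∈ codes, ∃ σ ∈ permGroup m codes, IsCode P σ := fun P hP => by
    obtain ⟨σ, hσ⟩ := hex P hP
    exact ⟨σ, Subgroup.subset_closure ⟨P, hP, hσ⟩, hσ⟩
  refine hn.trans ((chain_sound (slp_sound _ _ hk hs) _ _ hc).trans ?_)
  exact Subgroup.card_le_of_le fun σ hσ => hσ.1

/-- A finite group acting with elements that act on some distinguished objects as the given
permutations, and not larger than the group these generate, is that group modulo its kernel. -/
theorem nonempty_equiv_permGroup {G α : Type*} [Group G] [Finite G] (act : G →* Equiv.Perm α)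
    (Z : Subgroup G) [Z.Normal] (f : Fin m → α) (hf : Function.Injective f)
    (hZ : ∀ z ∈ Z, ∀ a, act z (f a) = f a) {codes : List ℕ} {N : ℕ} (C : Cert)
    (hC : C.ok m codes N = true)
    (hgen : ∀ P ∈ codes, ∃ g : G, ∀ a : Fin m, ∃ b : Fin m, (b : ℕ) = fieldAt P a ∧ act g (f a) = f b)
    (hcard : Nat.card G ≤ N * Nat.card Z) :
    Nonempty (G ⧸ Z ≃* permGroup m codes) ∧ ∀ g : G, ∀ a, ∃ b, act g (f a) = f b := by
  classical
  let S : Subgroup G :=
    { carrier := {g | (∀ a, ∃ b, act g (f a) = f b) ∧ ∀ a, ∃ b, act g⁻¹ (f a) = f b}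
      one_mem' := ⟨fun a => ⟨a, by simp⟩, fun a => ⟨a, by simp⟩⟩
      mul_mem' := fun {g h} hg hh => ⟨fun a => by
          obtain ⟨b, hb⟩ := hh.1 a
          obtain ⟨c, hc⟩ := hg.1 b
          exact ⟨c, by rw [map_mul, Equiv.Perm.mul_apply, hb, hc]⟩, fun a => by
          obtain ⟨b, hb⟩ := hg.2 a
          obtain ⟨c, hc⟩ := hh.2 b
          exact ⟨c, by rw [mul_inv_rev, map_mul, Equiv.Perm.mul_apply, hb, hc]⟩⟩
      inv_mem' := fun {g} hg => ⟨hg.2, fun a => by rw [inv_inv]; exact hg.1 a⟩ }
  have hS : ∀ g : G, g ∈ S ↔ ∀ a, ∃ b, act g (f a) = f b := by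
    intro g
    refine ⟨fun h => h.1, fun h => ⟨h, ?_⟩⟩
    choose b hb using h
    have hbi : Function.Injective b := fun x y e => hf ((act g).injective (by rw [hb, hb, e]))
    intro a
    obtain ⟨c, rfl⟩ := (Finite.injective_iff_surjective.1 hbi) a
    exact ⟨c, by rw [← hb, map_inv, Equiv.Perm.inv_def, Equiv.symm_apply_apply]⟩
  let img : S → Fin m → Fin m := fun g a => ((hS g.1).1 g.2 a).choose
  have himg : ∀ (g : S) a, act g.1 (f a) = f (img g a) := fun g a => ((hS g.1).1 g.2 a).choose_spec
  let ψ : S →* Equiv.Perm (Fin m) :=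
    { toFun := fun g =>
        { toFun := img g
          invFun := img g⁻¹
          left_inv := fun a => hf (by
            rw [← himg, ← himg, Subgroup.coe_inv, map_inv, Equiv.Perm.inv_def, Equiv.symm_apply_apply])
          right_inv := fun a => hf (by
            rw [← himg, ← himg, Subgroup.coe_inv, map_inv, Equiv.Perm.inv_def, Equiv.apply_symm_apply]) }
      map_one' := Equiv.ext fun a => hf (by
        show f (img 1 a) = f a
        rw [← himg]; simp)
      map_mul' := fun g h => Equiv.ext fun a => hf (by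
        show f (img (g * h) a) = f (img g (img h a))
        rw [← himg, ← himg, ← himg]; simp) }
  have hψ : ∀ (g : S) a, act g.1 (f a) = f (ψ g a) := himg
  have hmem : ∀ P ∈ codes, ∃ σ : Equiv.Perm (Fin m), IsCode P σ ∧ σ ∈ ψ.range := by
    intro P hP
    obtain ⟨g, hg⟩ := hgen P hP
    have hgS : g ∈ S := (hS g).2 fun a => ⟨_, (hg a).choose_spec.2⟩
    refine ⟨ψ ⟨g, hgS⟩, fun a => ?_, ⟨_, rfl⟩⟩
    obtain ⟨b, hb, he⟩ := hg a
    rw [← hb, hf ((hψ ⟨g, hgS⟩ a).symm.trans he)]
  have hle : permGroup m codes ≤ ψ.range := by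
    refine (Subgroup.closure_le _).2 ?_
    rintro σ ⟨P, hP, hσ⟩
    obtain ⟨τ, hτ, hr⟩ := hmem P hP
    rwa [isCode_unique hσ hτ]
  have hN : N ≤ Nat.card (permGroup m codes) := le_card_permGroup C hC fun P hP =>
    ⟨_, (hmem P hP).choose_spec.1⟩
  have hZS : Z ≤ S := fun z hz => (hS z).2 fun a => ⟨a, hZ z hz a⟩
  have hker : Z.subgroupOf S ≤ ψ.ker := fun z hz => MonoidHom.mem_ker.2 (Equiv.ext fun a => hf (by
    rw [← hψ]; exact hZ z.1 hz a))
  have hker_card : Nat.card Z ≤ Nat.card ψ.ker := by
    rw [← Nat.card_congr (Subgroup.subgroupOfEquivOfLe hZS).toEquiv]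
    exact Subgroup.card_le_of_le hker
  have hrange : Nat.card (permGroup m codes) ≤ Nat.card ψ.range := Subgroup.card_le_of_le hle
  have hprod : Nat.card ψ.range * Nat.card ψ.ker = Nat.card S := by
    rw [← Subgroup.index_ker ψ, Subgroup.index_mul_card]
  have hSG : Nat.card S ≤ Nat.card G := Subgroup.card_le_card_group S
  have hZpos : 0 < Nat.card Z := Nat.card_pos
  have h1 : N * Nat.card Z ≤ Nat.card (permGroup m codes) * Nat.card Z := Nat.mul_le_mul_right _ hN
  have h2 : Nat.card (permGroup m codes) * Nat.card Z ≤ Nat.card ψ.range * Nat.card ψ.ker :=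
    Nat.mul_le_mul hrange hker_card
  have hStop : S = ⊤ := Subgroup.eq_top_of_le_card _ (by omega)
  have hR : permGroup m codes = ψ.range := by
    refine Subgroup.eq_of_le_of_card_ge hle ?_
    have h3 : Nat.card ψ.range * Nat.card Z ≤ Nat.card ψ.range * Nat.card ψ.ker :=
      Nat.mul_le_mul_left _ hker_card
    exact Nat.le_of_mul_le_mul_right (by omega) hZpos
  have hK : ψ.ker = Z.subgroupOf S := by
    refine (Subgroup.eq_of_le_of_card_ge hker ?_).symm
    rw [Nat.card_congr (Subgroup.subgroupOfEquivOfLe hZS).toEquiv]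
    have hRpos : 0 < Nat.card ψ.range := Nat.card_pos
    refine Nat.le_of_mul_le_mul_left ?_ hRpos
    have h4 : N * Nat.card Z ≤ Nat.card ψ.range * Nat.card Z := by
      rw [← hR]; exact h1
    omega
  refine ⟨?_, fun g a => (hS g).1 (hStop ▸ Subgroup.mem_top g) a⟩
  let e : S ≃* G := (MulEquiv.subgroupCongr hStop).trans Subgroup.topEquiv
  have hmap : (Z.subgroupOf S).map e.toMonoidHom = Z := by
    ext z
    constructor
    · rintro ⟨w, hw, rfl⟩
      exact hw
    · exact fun hz => ⟨⟨z, hZS hz⟩, hz, rfl⟩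
  exact ⟨((QuotientGroup.congr _ _ e hmap).symm.trans
    (QuotientGroup.quotientMulEquivOfEq hK.symm)).trans
    ((QuotientGroup.quotientKerEquivRange ψ).trans (MulEquiv.subgroupCongr hR.symm))⟩

end CfsgLib.LeechPSU
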