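import Cfsg.Agent.Lib.LeechPSU.Lattice
import Cfsg.Agent.Lib.Leech.Sections

/-!
# Conjugate stabilisers, orbit counting and scalar products of coefficient lists
-/

set_option autoImplicit false

namespace CfsgLib.LeechPSU

open Cfsg CfsgLib.Leech CfsgLib.Rigid

/-- The scalar product of two coefficient lists for a Gram matrix. -/
noncomputable def gramDot (G : List (List ℤ)) (a b : List ℤ) : ℤ := dotList a (G.map fun r => dotList r b)

/-- The Gram matrix has the right size. -/
noncomputable def sizeOk (G : List (List ℤ)) : Bool :=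
  decide (G.length = 24) && G.all fun r => decide (r.length = 24)

variable {B : Basis} {G : List (List ℤ)}

theorem dot_vecB (hG : ∀ i j, innerL (B.e i) (B.e j) = Basis.ent G i j) (hs : sizeOk G = true)
    {a b : List ℤ} (ha : a.length = 24) (hb : b.length = 24) :
    dotInt (vecB B a : GolayPt → ℤ) (vecB B b : GolayPt → ℤ) = 8 * gramDot G a b := by
  simp only [sizeOk, Bool.and_eq_true, decide_eq_true_eq, List.all_eq_true] at hs
  rw [← eight_mul_inner, gramDot, dotList_getD ha (by simpa using hs.1)]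
  congr 1
  simp only [vecB, map_sum, map_zsmul, AddMonoidHom.finsetSum_apply, AddMonoidHom.zsmul_apply, hG,
    smul_eq_mul, Finset.mul_sum]
  rw [Finset.sum_comm]
  refine Finset.sum_congr rfl fun i _ => ?_
  have hi : i.val < G.length := by have := i.isLt; omega
  rw [List.getD_eq_getElem (G.map _) _ (by simpa using hi), List.getElem_map,
    dotList_getD (hs.2 _ (List.getElem_mem hi)) hb, Finset.mul_sum]
  refine Finset.sum_congr rfl fun j _ => ?_
  unfold Basis.ent
  rw [List.getD_eq_getElem G [] hi]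
  ring

theorem sqNorm_vecB (hG : ∀ i j, innerL (B.e i) (B.e j) = Basis.ent G i j) (hs : sizeOk G = true)
    {a : List ℤ} (ha : a.length = 24) : sqNorm (vecB B a : GolayPt → ℤ) = 8 * gramDot G a a := by
  rw [← dotInt_self, dot_vecB hG hs ha ha]

theorem stab_conj {g : Co0} (K K' : Subgroup Co0) (h : ∀ k, k ∈ K ↔ g * k * g⁻¹ ∈ K') :
    Nonempty (K ≃* K') := by
  have e : K.map (MulAut.conj g).toMonoidHom = K' := by
    ext k
    rw [Subgroup.mem_map]
    constructor
    · rintro ⟨x, hx, rfl⟩
      exact (h x).1 hx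
    · intro hk
      refine ⟨g⁻¹ * k * g, (h _).2 ?_, ?_⟩
      · rwa [show g * (g⁻¹ * k * g) * g⁻¹ = k by group]
      · show g * (g⁻¹ * k * g) * g⁻¹ = k
        group
  exact ⟨((MulAut.conj g).subgroupMap K).trans (MulEquiv.subgroupCongr e)⟩

theorem mem_stab_conj {g : Co0} {a a' : leechLattice} (h : g • a = a') (k : Co0) :
    k • a = a ↔ (g * k * g⁻¹) • a' = a' := by
  subst h
  rw [mul_smul, mul_smul, inv_smul_smul, smul_left_cancel_iff]

theorem stab2_equiv {g : Co0} {a b a' b' : leechLattice} (ha : g • a = a') (hb : g • b = b') :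
    Nonempty (↥(MulAction.stabilizer Co0 a ⊓ MulAction.stabilizer Co0 b) ≃*
      ↥(MulAction.stabilizer Co0 a' ⊓ MulAction.stabilizer Co0 b')) :=
  stab_conj (g := g) _ _ fun k => and_congr (mem_stab_conj ha k) (mem_stab_conj hb k)

theorem stab3_equiv {g : Co0} {a b c a' b' c' : leechLattice} (ha : g • a = a') (hb : g • b = b')
    (hc : g • c = c') :
    Nonempty (↥(MulAction.stabilizer Co0 a ⊓ MulAction.stabilizer Co0 b ⊓ MulAction.stabilizer Co0 c) ≃*
      ↥(MulAction.stabilizer Co0 a' ⊓ MulAction.stabilizer Co0 b' ⊓ MulAction.stabilizer Co0 c')) :=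
  stab_conj (g := g) _ _ fun k =>
    and_congr (and_congr (mem_stab_conj ha k) (mem_stab_conj hb k)) (mem_stab_conj hc k)

/-- Counting with an orbit. -/
theorem ncard_mul_card_stab (H : Subgroup Co0) (y : leechLattice) (S : Set leechLattice)
    (h1 : ∀ g ∈ H, g • y ∈ S) (h2 : ∀ z ∈ S, ∃ g ∈ H, g • y = z) :
    S.ncard * Nat.card ↥(H ⊓ MulAction.stabilizer Co0 y) = Nat.card H := by
  have horb : MulAction.orbit H y = S := by
    ext z
    constructor
    · rintro ⟨g, rfl⟩; exact h1 g.1 g.2
    · intro hz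
      obtain ⟨g, hg, e⟩ := h2 z hz
      exact ⟨⟨g, hg⟩, e⟩
  have e : MulAction.stabilizer H y = (H ⊓ MulAction.stabilizer Co0 y).subgroupOf H := by
    ext g
    exact ⟨fun h => ⟨g.2, h⟩, fun h => h.2⟩
  have h := (MulAction.stabilizer H y).index_mul_card
  rw [MulAction.index_stabilizer, horb, e,
    Nat.card_congr (Subgroup.subgroupOfEquivOfLe inf_le_left).toEquiv] at h
  exact h

end CfsgLib.LeechPSU
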