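import Cfsg.Agent.Lib.LeechPSU.U43Check
import Cfsg.Agent.Lib.LeechPSU.Transfer
import Cfsg.Agent.Lib.Fusion.McLSimple.Main

/-!
# The stabiliser of a triple of the rank 3 action on 275 points is `PSU(4, 3)`
-/

set_option autoImplicit false
set_option maxRecDepth 20000

namespace CfsgLib.LeechPSU.U43

open Cfsg CfsgLib.Leech CfsgLib.Rigid
open CfsgLib.Fusion.McLSimple (mclStab card_mclStab mcl_dots)

local notation "pairU" => CfsgLib.Fusion.McLSimple.mclU

/-- The basis. -/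
noncomputable def basis : Basis :=
  mkBasis CfsgLib.Rigid.McL.tabE CfsgLib.Rigid.McL.tabD CfsgLib.Rigid.McL.gram CfsgLib.Rigid.McL.table_ok

theorem gram_eq : ∀ i j, innerL (basis.e i) (basis.e j) = Basis.ent CfsgLib.Rigid.McL.gram i j :=
  mkBasis_gram CfsgLib.Rigid.McL.table_ok

/-- The vectors of the standard triple. -/
noncomputable def stdA : leechLattice := vecB basis (fixed.getD 0 [])

/-- The vectors of the standard triple. -/
noncomputable def stdB : leechLattice := vecB basis (fixed.getD 1 [])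

/-- The vectors of the standard triple. -/
noncomputable def stdC : leechLattice := vecB basis (fixed.getD 2 [])

theorem std_gram : sizeOk CfsgLib.Rigid.McL.gram = true ∧ fixed.length = 3 ∧
    (∀ c ∈ fixed, c.length = 24) ∧
    gramDot CfsgLib.Rigid.McL.gram (fixed.getD 0 []) (fixed.getD 0 []) = 6 ∧
    gramDot CfsgLib.Rigid.McL.gram (fixed.getD 1 []) (fixed.getD 1 []) = 4 ∧
    gramDot CfsgLib.Rigid.McL.gram (fixed.getD 2 []) (fixed.getD 2 []) = 4 ∧
    gramDot CfsgLib.Rigid.McL.gram (fixed.getD 0 []) (fixed.getD 1 []) = 3 ∧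
    gramDot CfsgLib.Rigid.McL.gram (fixed.getD 0 []) (fixed.getD 2 []) = 3 ∧
    gramDot CfsgLib.Rigid.McL.gram (fixed.getD 1 []) (fixed.getD 2 []) = 2 := by
  refine ⟨?_, ?_, ?_, ?_, ?_, ?_, ?_, ?_, ?_⟩ <;> decide +kernel

theorem std_facts : sqNorm (stdA : GolayPt → ℤ) = 48 ∧ sqNorm (stdB : GolayPt → ℤ) = 32 ∧
    sqNorm (stdC : GolayPt → ℤ) = 32 ∧ dotInt (stdA : GolayPt → ℤ) stdB = 24 ∧
    dotInt (stdA : GolayPt → ℤ) stdC = 24 ∧ dotInt (stdB : GolayPt → ℤ) stdC = 16 := by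
  obtain ⟨hs, hl, hlen, h00, h11, h22, h01, h02, h12⟩ := std_gram
  have hl' : ∀ i < 3, (fixed.getD i []).length = 24 := fun i hi => by
    rw [List.getD_eq_getElem _ _ (by omega)]; exact hlen _ (List.getElem_mem _)
  have l0 := hl' 0 (by norm_num)
  have l1 := hl' 1 (by norm_num)
  have l2 := hl' 2 (by norm_num)
  refine ⟨?_, ?_, ?_, ?_, ?_, ?_⟩
  · rw [stdA, sqNorm_vecB gram_eq hs l0, h00]; norm_num
  · rw [stdB, sqNorm_vecB gram_eq hs l1, h11]; norm_num
  · rw [stdC, sqNorm_vecB gram_eq hs l2, h22]; norm_num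
  · rw [stdA, stdB, dot_vecB gram_eq hs l0 l1, h01]; norm_num
  · rw [stdA, stdC, dot_vecB gram_eq hs l0 l2, h02]; norm_num
  · rw [stdB, stdC, dot_vecB gram_eq hs l1 l2, h12]; norm_num

variable {u v x : leechLattice}

theorem exists_to_std (hu : sqNorm (u : GolayPt → ℤ) = 48) (hv : sqNorm (v : GolayPt → ℤ) = 32)
    (hx : sqNorm (x : GolayPt → ℤ) = 32) (huv : dotInt (u : GolayPt → ℤ) v = 24)
    (hux : dotInt (u : GolayPt → ℤ) x = 24) (hvx : dotInt (v : GolayPt → ℤ) x = 16)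
    {u' v' x' : leechLattice} (hu' : sqNorm (u' : GolayPt → ℤ) = 48) (hv' : sqNorm (v' : GolayPt → ℤ) = 32)
    (hx' : sqNorm (x' : GolayPt → ℤ) = 32) (huv' : dotInt (u' : GolayPt → ℤ) v' = 24)
    (hux' : dotInt (u' : GolayPt → ℤ) x' = 24) (hvx' : dotInt (v' : GolayPt → ℤ) x' = 16) :
    ∃ g : Co0, g • u = u' ∧ g • v = v' ∧ g • x = x' := by
  obtain ⟨g, h1, h2, h3⟩ := exists_map_triple (exists_triple_mcl hu hv hx huv hux hvx)
    (exists_triple_mcl hu' hv' hx' huv' hux' hvx')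
  exact ⟨g, h3, h1, h2⟩

theorem card_stab : Nat.card ↥(MulAction.stabilizer Co0 stdA ⊓ MulAction.stabilizer Co0 stdB ⊓
    MulAction.stabilizer Co0 stdC) = 3265920 := by
  obtain ⟨hu, hv, huv⟩ := mcl_dots
  set S : Set leechLattice := {z | sqNorm (z : GolayPt → ℤ) = 32 ∧ dotInt (pairU : GolayPt → ℤ) z = 24 ∧
    dotInt (Spor.leechU : GolayPt → ℤ) z = 16} with hS
  have hn : S.ncard = 275 := ncard_mclPair hu hv huv
  obtain ⟨y, hy⟩ := Set.nonempty_of_ncard_ne_zero (s := S) (by omega)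
  obtain ⟨f1, f2, f3, f4, f5, f6⟩ := std_facts
  obtain ⟨g, g1, g2, g3⟩ := exists_to_std f1 f2 f3 f4 f5 f6 hu hv hy.1 huv hy.2.1 hy.2.2
  obtain ⟨e⟩ := stab3_equiv g1 g2 g3
  rw [Nat.card_congr e.toEquiv]
  have h := ncard_mul_card_stab mclStab y S (fun k hk => ?_) (fun z hz => ?_)
  · rw [hn, card_mclStab] at h
    show Nat.card ↥(mclStab ⊓ MulAction.stabilizer Co0 y) = _
    omega
  · obtain ⟨k1, k2⟩ := hk
    have d1 := dot_smul_co k pairU y
    have d2 := dot_smul_co k Spor.leechU y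
    rw [show k • pairU = pairU from k1] at d1
    rw [show k • Spor.leechU = Spor.leechU from k2] at d2
    exact ⟨(sqNorm_smul_co k y).trans hy.1, d1.trans hy.2.1, d2.trans hy.2.2⟩
  · obtain ⟨k, a, b, c⟩ := exists_to_std hu hv hy.1 huv hy.2.1 hy.2.2 hu hv hz.1 huv hz.2.1 hz.2.2
    exact ⟨k, ⟨a, b⟩, c⟩

theorem std_equiv : Nonempty (↥(MulAction.stabilizer Co0 stdA ⊓ MulAction.stabilizer Co0 stdB ⊓
    MulAction.stabilizer Co0 stdC) ≃* permGroup 280 codes) := by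
  have : Finite ↥(MulAction.stabilizer Co0 stdA ⊓ MulAction.stabilizer Co0 stdB ⊓
      MulAction.stabilizer Co0 stdC) := Nat.finite_of_card_ne_zero (by rw [card_stab]; norm_num)
  have hmem : ∀ i < 3, fixed.getD i [] ∈ fixed := fun i hi => by
    rw [List.getD_eq_getElem _ _ (by rw [std_gram.2.1]; omega)]; exact List.getElem_mem _
  exact nonempty_stab_equiv gram_eq (MulAction.stabilizer Co0 stdA ⊓ MulAction.stabilizer Co0 stdB ⊓
      MulAction.stabilizer Co0 stdC) fixed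
    (fun g h => ⟨⟨h _ (hmem 0 (by norm_num)), h _ (hmem 1 (by norm_num))⟩, h _ (hmem 2 (by norm_num))⟩)
    blocks blocks_length gens vecs_ok blocks_ok gens_ok gens_codes cert cert_ok card_stab.le

theorem psu_equiv (F : Type) [Field F] [Fintype F] (hF : Fintype.card F = 9) :
    Nonempty (PSU 4 F 3 ≃* permGroup 280 codes) := by
  obtain ⟨hc, a, ha⟩ := exists_gen_nine hF
  have : CharP F par.p := hc
  exact UPar.nonempty_psu_equiv (U := par) ha hF (by decide) (by decide) pts pts_length codes words pts_ok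
    pts_iso cert cert_ok (by decide)

theorem stab_equiv (hu : sqNorm (u : GolayPt → ℤ) = 48) (hv : sqNorm (v : GolayPt → ℤ) = 32)
    (hx : sqNorm (x : GolayPt → ℤ) = 32) (huv : dotInt (u : GolayPt → ℤ) v = 24)
    (hux : dotInt (u : GolayPt → ℤ) x = 24) (hvx : dotInt (v : GolayPt → ℤ) x = 16)
    (F : Type) [Field F] [Fintype F] (hF : Fintype.card F = 9) :
    Nonempty (↥(MulAction.stabilizer Co0 u ⊓ MulAction.stabilizer Co0 v ⊓ MulAction.stabilizer Co0 x) ≃*
      PSU 4 F 3) := by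
  obtain ⟨f1, f2, f3, f4, f5, f6⟩ := std_facts
  obtain ⟨g, g1, g2, g3⟩ := exists_to_std hu hv hx huv hux hvx f1 f2 f3 f4 f5 f6
  obtain ⟨e1⟩ := stab3_equiv g1 g2 g3
  obtain ⟨e2⟩ := std_equiv
  obtain ⟨e3⟩ := psu_equiv F hF
  exact ⟨(e1.trans e2).trans e3.symm⟩

end CfsgLib.LeechPSU.U43
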