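import Mathlib
import Cfsg.Agent.Lib.Classical.HermBasic

/-!
# Codes for the elements of a field with `p ^ 2` elements

The code `a` stands for `a % p + (a / p) α` with `α ^ 2 = s + t α`.
-/

set_option autoImplicit false

namespace CfsgLib.LeechPSU

/-- The sum of two codes. -/
noncomputable def addC (p a b : ℕ) : ℕ := (a % p + b % p) % p + p * ((a / p + b / p) % p)

/-- The product of two codes. -/
noncomputable def mulC (p s t a b : ℕ) : ℕ :=
  (a % p * (b % p) + s * (a / p) * (b / p)) % p +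
    p * ((a % p * (b / p) + a / p * (b % p) + t * (a / p) * (b / p)) % p)

/-- A power of a code. -/
noncomputable def powC (p s t a : ℕ) : ℕ → ℕ := Nat.rec 1 fun _ r => mulC p s t r a

/-- Every code other than zero has an inverse, and each is in range. -/
noncomputable def fieldOk (p s t : ℕ) : Bool :=
  (List.range (p * p)).all fun a => Nat.beq a 0 ||
    (List.range (p * p)).any fun b => Nat.beq (mulC p s t a b) 1

variable {F : Type*} [Field F] {p s t : ℕ} {α : F}

/-- The element of a code. -/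
def iota (p : ℕ) (α : F) (a : ℕ) : F := ((a % p : ℕ) : F) + ((a / p : ℕ) : F) * α

/-- The vector of a list of codes. -/
def vecF (p : ℕ) (α : F) (n : ℕ) (l : List ℕ) : Fin n → F := fun i => iota p α (l.getD i.val 0)

theorem iota_zero : iota p α 0 = 0 := by simp [iota]

theorem iota_pack (hp : 1 < p) (c d : ℕ) (hc : c < p) :
    iota p α (c + p * d) = (c : F) + (d : F) * α := by
  unfold iota
  rw [Nat.add_mul_mod_self_left, Nat.mod_eq_of_lt hc, Nat.add_mul_div_left _ _ (by omega : 0 < p),
    Nat.div_eq_of_lt hc, zero_add]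

theorem iota_one (hp : 1 < p) : iota p α 1 = 1 := by
  simp [iota, Nat.mod_eq_of_lt hp, Nat.div_eq_of_lt hp]

variable [CharP F p]

theorem natCast_mod (a : ℕ) : ((a % p : ℕ) : F) = (a : F) := by
  conv_rhs => rw [← Nat.div_add_mod a p]
  push_cast
  rw [CharP.cast_eq_zero F p, zero_mul, zero_add]

theorem iota_add (hp : 1 < p) (a b : ℕ) : iota p α (addC p a b) = iota p α a + iota p α b := by
  rw [addC, iota_pack hp _ _ (Nat.mod_lt _ (by omega)), natCast_mod, natCast_mod]
  unfold iota
  push_cast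
  ring

theorem iota_mul (hp : 1 < p) (hα : α * α = (s : F) + (t : F) * α) (a b : ℕ) :
    iota p α (mulC p s t a b) = iota p α a * iota p α b := by
  rw [mulC, iota_pack hp _ _ (Nat.mod_lt _ (by omega)), natCast_mod, natCast_mod]
  unfold iota
  push_cast
  linear_combination -(((a / p : ℕ) : F) * ((b / p : ℕ) : F)) * hα

theorem iota_pow (hp : 1 < p) (hα : α * α = (s : F) + (t : F) * α) (a : ℕ) :
    ∀ k, iota p α (powC p s t a k) = iota p α a ^ k
  | 0 => by rw [pow_zero]; exact iota_one hp
  | k + 1 => by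
    rw [pow_succ, show powC p s t a (k + 1) = mulC p s t (powC p s t a k) a from rfl, iota_mul hp hα,
      iota_pow hp hα a k]

theorem iota_ne_zero (hp : 1 < p) (hα : α * α = (s : F) + (t : F) * α) (hok : fieldOk p s t = true)
    {a : ℕ} (ha : a < p * p) (h0 : a ≠ 0) : iota p α a ≠ 0 := by
  simp only [fieldOk, List.all_eq_true, List.mem_range, Bool.or_eq_true, Nat.beq_eq, List.any_eq_true] at hok
  obtain ⟨b, -, hb⟩ := (hok a ha).resolve_left h0
  intro h
  have h1 := iota_mul hp hα a b
  rw [hb, h, zero_mul, iota_one hp] at h1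
  exact one_ne_zero h1

theorem iota_inj (hp : 1 < p) (hα : α * α = (s : F) + (t : F) * α) (hok : fieldOk p s t = true)
    {a b : ℕ} (ha : a < p * p) (hb : b < p * p) (h : iota p α a = iota p α b) : a = b := by
  set d := ((a % p + (p - b % p)) % p) + p * ((a / p + (p - b / p)) % p) with hd
  have hb1 : b / p < p := Nat.div_lt_of_lt_mul hb
  have ha1 : a / p < p := Nat.div_lt_of_lt_mul ha
  have hb0 : b % p < p := Nat.mod_lt _ (by omega)
  have ha0 : a % p < p := Nat.mod_lt _ (by omega)
  have e : iota p α d = iota p α a - iota p α b := by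
    rw [hd, iota_pack hp _ _ (Nat.mod_lt _ (by omega)), natCast_mod, natCast_mod]
    unfold iota
    push_cast [Nat.cast_sub hb0.le, Nat.cast_sub hb1.le, CharP.cast_eq_zero F p]
    ring
  rw [h, sub_self] at e
  have hlt : d < p * p := by
    rw [hd]
    have h1 : (a % p + (p - b % p)) % p < p := Nat.mod_lt _ (by omega)
    have h2 : (a / p + (p - b / p)) % p + 1 ≤ p := Nat.mod_lt _ (by omega)
    calc _ < p * 1 + p * ((a / p + (p - b / p)) % p) := by omega
      _ ≤ p * p := by rw [← mul_add, add_comm]; exact Nat.mul_le_mul_left _ h2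
  have hd0 : d = 0 := by_contra fun h0 => iota_ne_zero hp hα hok hlt h0 e
  have key : ∀ x y : ℕ, x < p → y < p → (x + (p - y)) % p = 0 → x = y := fun x y hx hy hxy => by
    rcases Nat.lt_or_ge (x + (p - y)) p with h | h
    · rw [Nat.mod_eq_of_lt h] at hxy; omega
    · rw [Nat.mod_eq_sub_mod h, Nat.mod_eq_of_lt (by omega)] at hxy; omega
  rw [hd, Nat.add_eq_zero_iff] at hd0
  have e0 := key _ _ ha0 hb0 hd0.1
  have e1 := key _ _ ha1 hb1 ((Nat.mul_eq_zero.1 hd0.2).resolve_left (by omega))
  rw [← Nat.div_add_mod a p, ← Nat.div_add_mod b p, e0, e1]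

theorem exists_gen_four [Fintype F] (hF : Fintype.card F = 4) :
    CharP F 2 ∧ ∃ a : F, a * a = ((1 : ℕ) : F) + ((1 : ℕ) : F) * a := by
  classical
  have hc : CharP F 2 := by
    obtain ⟨q, hq⟩ := CharP.exists F
    obtain ⟨n, hp, hn⟩ := FiniteField.card F q
    have h : q ∣ 2 ^ 2 := by rw [show (2 : ℕ) ^ 2 = 4 from rfl, ← hF, hn]; exact dvd_pow_self q n.pos.ne'
    rwa [(Nat.prime_dvd_prime_iff_eq hp Nat.prime_two).1 (hp.dvd_of_dvd_pow h)] at hq
  obtain ⟨a, ha⟩ : ∃ a : F, a ≠ 0 ∧ a ≠ 1 := by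
    by_contra h
    push Not at h
    have : (Finset.univ : Finset F) ⊆ {0, 1} := fun x _ => by
      rw [Finset.mem_insert, Finset.mem_singleton]
      exact (em (x = 0)).imp id (h x)
    have := (Finset.card_le_card this).trans Finset.card_le_two
    rw [Finset.card_univ, hF] at this
    omega
  have h3 : a ^ 3 = 1 := by
    have := FiniteField.pow_card_sub_one_eq_one a ha.1
    rwa [hF] at this
  have h2 : (2 : F) = 0 := by
    simpa using CharP.cast_eq_zero F 2
  have h : (a - 1) * (a * a + a + 1) = 0 := by linear_combination h3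
  have h' := (mul_eq_zero.1 h).resolve_left (sub_ne_zero.2 ha.2)
  exact ⟨hc, a, by push_cast; linear_combination h' - (a + 1) * h2⟩

theorem charP_of_card_sq [Fintype F] {q : ℕ} (hq : q.Prime) (hF : Fintype.card F = q ^ 2) : CharP F q := by
  obtain ⟨r, hr⟩ := CharP.exists F
  obtain ⟨n, hp, hn⟩ := FiniteField.card F r
  have h : r ∣ q ^ 2 := by rw [← hF, hn]; exact dvd_pow_self r n.pos.ne'
  rwa [(Nat.prime_dvd_prime_iff_eq hp hq).1 (hp.dvd_of_dvd_pow h)] at hr

theorem exists_gen_nine [Fintype F] (hF : Fintype.card F = 9) :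
    CharP F 3 ∧ ∃ a : F, a * a = ((2 : ℕ) : F) + ((0 : ℕ) : F) * a := by
  have hc : CharP F 3 := charP_of_card_sq Nat.prime_three (by rw [hF]; rfl)
  obtain ⟨a, ha⟩ := (FiniteField.isSquare_neg_one_iff (F := F)).2 (by rw [hF]; decide)
  have h3 : ((3 : ℕ) : F) = 0 := CharP.cast_eq_zero F 3
  exact ⟨hc, a, by push_cast at h3 ⊢; linear_combination -ha - h3⟩

theorem exists_gen_twentyfive [Fintype F] (hF : Fintype.card F = 25) :
    CharP F 5 ∧ ∃ a : F, a * a = ((2 : ℕ) : F) + ((0 : ℕ) : F) * a := by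
  have hc : CharP F 5 := charP_of_card_sq (by norm_num) (by rw [hF]; rfl)
  obtain ⟨a, ha⟩ := (FiniteField.isSquare_two_iff (F := F)).2 (by rw [hF]; decide)
  exact ⟨hc, a, by push_cast; linear_combination -ha⟩

end CfsgLib.LeechPSU
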