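import Cfsg.Agent.Lib.LeechPSU.U35Orbit
import Cfsg.Agent.Lib.LeechPSU.Transfer
import Cfsg.Agent.Lib.Leech.HSGroup

/-!
# Transitivity on 352 vectors and their stabilisers `PSU(3, 5)`
-/

set_option autoImplicit false
set_option maxRecDepth 20000

namespace CfsgLib.LeechPSU.U35

open Cfsg CfsgLib.Leech CfsgLib.Rigid CfsgLib.Golay

/-- The basis. -/
noncomputable def basis : Basis :=
  mkBasis CfsgLib.Rigid.Co3.tabE CfsgLib.Rigid.Co3.tabD CfsgLib.Rigid.Co3.gram CfsgLib.Rigid.Co3.table_ok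

theorem gram_eq : ∀ i j, innerL (basis.e i) (basis.e j) = Basis.ent CfsgLib.Rigid.Co3.gram i j :=
  mkBasis_gram CfsgLib.Rigid.Co3.table_ok

/-- The first vector of the standard pair. -/
noncomputable def stdA : leechLattice := vecB basis (fixed.getD 0 [])

/-- The second vector of the standard pair. -/
noncomputable def stdB : leechLattice := vecB basis (fixed.getD 1 [])

/-- The standard vector among the 352. -/
noncomputable def stdC : leechLattice := vecB basis (fixed.getD 2 [])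

theorem std_gram : sizeOk CfsgLib.Rigid.Co3.gram = true ∧ fixed.length = 3 ∧
    (∀ c ∈ fixed, c.length = 24) ∧
    gramDot CfsgLib.Rigid.Co3.gram (fixed.getD 0 []) (fixed.getD 0 []) = 6 ∧
    gramDot CfsgLib.Rigid.Co3.gram (fixed.getD 1 []) (fixed.getD 1 []) = 6 ∧
    gramDot CfsgLib.Rigid.Co3.gram (fixed.getD 2 []) (fixed.getD 2 []) = 4 ∧
    gramDot CfsgLib.Rigid.Co3.gram (fixed.getD 0 []) (fixed.getD 1 []) = -4 ∧
    gramDot CfsgLib.Rigid.Co3.gram (fixed.getD 0 []) (fixed.getD 2 []) = 2 ∧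
    gramDot CfsgLib.Rigid.Co3.gram (fixed.getD 1 []) (fixed.getD 2 []) = -3 := by
  refine ⟨?_, ?_, ?_, ?_, ?_, ?_, ?_, ?_, ?_⟩ <;> decide +kernel

/-- The set of 352 vectors of a pair. -/
def set352 (v w : leechLattice) : Set leechLattice :=
  {x | sqNorm (x : GolayPt → ℤ) = 32 ∧ dotInt (v : GolayPt → ℤ) x = 16 ∧ dotInt (w : GolayPt → ℤ) x = -24}

theorem std_facts : sqNorm (stdA : GolayPt → ℤ) = 48 ∧ sqNorm (stdB : GolayPt → ℤ) = 48 ∧
    dotInt (stdA : GolayPt → ℤ) stdB = -32 ∧ stdC ∈ set352 stdA stdB := by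
  obtain ⟨hs, hl, hlen, h00, h11, h22, h01, h02, h12⟩ := std_gram
  have hl' : ∀ i < 3, (fixed.getD i []).length = 24 := fun i hi => by
    rw [List.getD_eq_getElem _ _ (by omega)]; exact hlen _ (List.getElem_mem _)
  have l0 := hl' 0 (by norm_num)
  have l1 := hl' 1 (by norm_num)
  have l2 := hl' 2 (by norm_num)
  refine ⟨?_, ?_, ?_, ?_, ?_, ?_⟩
  · rw [stdA, sqNorm_vecB gram_eq hs l0, h00]; norm_num
  · rw [stdB, sqNorm_vecB gram_eq hs l1, h11]; norm_num
  · rw [stdA, stdB, dot_vecB gram_eq hs l0 l1, h01]; norm_num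
  · rw [stdC, sqNorm_vecB gram_eq hs l2, h22]; norm_num
  · rw [stdA, stdC, dot_vecB gram_eq hs l0 l2, h02]; norm_num
  · rw [stdB, stdC, dot_vecB gram_eq hs l1 l2, h12]; norm_num

variable {v w x : leechLattice}

theorem smul_mem_set352 {g : Co0} {v' w' : leechLattice} (h1 : g • v = v') (h2 : g • w = w')
    (hx : x ∈ set352 v w) : g • x ∈ set352 v' w' := by
  subst h1 h2
  exact ⟨(sqNorm_smul_co g x).trans hx.1, (dot_smul_co g v x).trans hx.2.1, (dot_smul_co g w x).trans hx.2.2⟩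

theorem ncard_set352 (hv : sqNorm (v : GolayPt → ℤ) = 48) (hw : sqNorm (w : GolayPt → ℤ) = 48)
    (hvw : dotInt (v : GolayPt → ℤ) w = -32) : (set352 v w).ncard = 352 := by
  have hy : sqNorm ((v + w : leechLattice) : GolayPt → ℤ) = 32 := by
    rw [AddSubgroup.coe_add, sqNorm_add, hv, hw, hvw]; norm_num
  have hd : dotInt (v : GolayPt → ℤ) ((v + w : leechLattice) : GolayPt → ℤ) = 16 := by
    rw [AddSubgroup.coe_add, dotInt_add_right, dotInt_self, hv, hvw]; norm_num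
  obtain ⟨g, h1, h2⟩ := exists_map_pair (exists_pair48 hv hy hd)
    (exists_pair48 (u := CfsgLib.Leech.stdU) (x := CfsgLib.Leech.stdW) std_dots.1 std_dots.2.2.1
      std_dots.2.2.2.2.2.1)
  have e : set352 v w = {y : leechLattice | sqNorm (y : GolayPt → ℤ) = 32 ∧ dotInt (v : GolayPt → ℤ) y = 16 ∧
      dotInt ((v + w : leechLattice) : GolayPt → ℤ) y = -8} := by
    ext y
    have h : dotInt ((v + w : leechLattice) : GolayPt → ℤ) y =
        dotInt (v : GolayPt → ℤ) y + dotInt (w : GolayPt → ℤ) y := by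
      rw [AddSubgroup.coe_add, dotInt_comm, dotInt_add_right, dotInt_comm, dotInt_comm (y : GolayPt → ℤ)]
    constructor <;> rintro ⟨a, b, c⟩ <;> exact ⟨a, b, by omega⟩
  rw [e, ncard_dot_two g (congrArg Subtype.val h1) (congrArg Subtype.val h2) 16 (-8)]
  refine (ncard_sect_two maskTwo_ok.1 maskTwo_ok.2.1 (fun j => [5, 1, 1].getD j 0)
    (fun j => [4, -4, 0].getD j 0) (by decide +kernel) (by decide +kernel) 16 (-8) maskTwo_ok.2.2).trans ?_
  decide +kernel

theorem exists_map_hsPair {v' w' : leechLattice} (hv : sqNorm (v : GolayPt → ℤ) = 48)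
    (hw : sqNorm (w : GolayPt → ℤ) = 48) (hvw : dotInt (v : GolayPt → ℤ) w = -32)
    (hv' : sqNorm (v' : GolayPt → ℤ) = 48) (hw' : sqNorm (w' : GolayPt → ℤ) = 48)
    (hvw' : dotInt (v' : GolayPt → ℤ) w' = -32) : ∃ g : Co0, g • v = v' ∧ g • w = w' := by
  have key : ∀ {a b : leechLattice}, sqNorm (a : GolayPt → ℤ) = 48 → sqNorm (b : GolayPt → ℤ) = 48 →
      dotInt (a : GolayPt → ℤ) b = -32 → sqNorm ((a + b : leechLattice) : GolayPt → ℤ) = 32 ∧
        dotInt (a : GolayPt → ℤ) ((a + b : leechLattice) : GolayPt → ℤ) = 16 := fun {a b} ha hb hab => by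
    constructor
    · rw [AddSubgroup.coe_add, sqNorm_add, ha, hb, hab]; norm_num
    · rw [AddSubgroup.coe_add, dotInt_add_right, dotInt_self, ha, hab]; norm_num
  obtain ⟨g, h1, h2⟩ := exists_map_pair (exists_pair48 hv (key hv hw hvw).1 (key hv hw hvw).2)
    (exists_pair48 hv' (key hv' hw' hvw').1 (key hv' hw' hvw').2)
  refine ⟨g, h1, ?_⟩
  rw [← add_sub_cancel_left v w, smul_sub', h2, h1, add_sub_cancel_left]

theorem orbit_std : ∀ z ∈ set352 stdA stdB,
    ∃ g : Co0, g • stdA = stdA ∧ g • stdB = stdB ∧ g • stdC = z := by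
  obtain ⟨f1, f2, f3, f4⟩ := std_facts
  obtain ⟨p, hp, hp0, hmove⟩ := U35Orbit.exists_orbit (B := basis) gram_eq
  have hsub : Set.range p ⊆ set352 stdA stdB := by
    rintro _ ⟨i, rfl⟩
    obtain ⟨g, g0, g1, g2⟩ := hmove i
    rw [← g2, hp0]
    exact smul_mem_set352 g0 g1 f4
  have hn := ncard_set352 f1 f2 f3
  have he : Set.range p = set352 stdA stdB := Set.eq_of_subset_of_ncard_le hsub
    (by rw [hn, Set.ncard_range_of_injective hp, Nat.card_fin])
    (Set.finite_of_ncard_ne_zero (by omega))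
  intro z hz
  rw [← he] at hz
  obtain ⟨i, rfl⟩ := hz
  obtain ⟨g, g0, g1, g2⟩ := hmove i
  exact ⟨g, g0, g1, by rw [← g2, hp0]; rfl⟩

theorem exists_to_std (hv : sqNorm (v : GolayPt → ℤ) = 48) (hw : sqNorm (w : GolayPt → ℤ) = 48)
    (hvw : dotInt (v : GolayPt → ℤ) w = -32) (hx : x ∈ set352 v w) :
    ∃ g : Co0, g • v = stdA ∧ g • w = stdB ∧ g • x = stdC := by
  obtain ⟨f1, f2, f3, -⟩ := std_facts
  obtain ⟨g, g1, g2⟩ := exists_map_hsPair hv hw hvw f1 f2 f3
  obtain ⟨k, k1, k2, k3⟩ := orbit_std _ (smul_mem_set352 g1 g2 hx)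
  refine ⟨k⁻¹ * g, ?_, ?_, ?_⟩ <;> rw [mul_smul, inv_smul_eq_iff]
  · rw [g1, k1]
  · rw [g2, k2]
  · exact k3.symm

theorem transitive (hv : sqNorm (v : GolayPt → ℤ) = 48) (hw : sqNorm (w : GolayPt → ℤ) = 48)
    (hvw : dotInt (v : GolayPt → ℤ) w = -32) {x' : leechLattice} (hx : x ∈ set352 v w)
    (hx' : x' ∈ set352 v w) : ∃ g : Co0, g • v = v ∧ g • w = w ∧ g • x = x' := by
  obtain ⟨g, g1, g2, g3⟩ := exists_to_std hv hw hvw hx
  obtain ⟨k, k1, k2, k3⟩ := exists_to_std hv hw hvw hx'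
  refine ⟨k⁻¹ * g, ?_, ?_, ?_⟩ <;> rw [mul_smul, inv_smul_eq_iff]
  · rw [g1, k1]
  · rw [g2, k2]
  · rw [g3, k3]

theorem card_stab : Nat.card ↥(MulAction.stabilizer Co0 stdA ⊓ MulAction.stabilizer Co0 stdB ⊓
    MulAction.stabilizer Co0 stdC) = 126000 := by
  obtain ⟨f1, f2, f3, f4⟩ := std_facts
  obtain ⟨φ⟩ := HSVec.stab_equiv_graph f1 f2 f3
  have hc : Nat.card ↥(MulAction.stabilizer Co0 stdA ⊓ MulAction.stabilizer Co0 stdB) = 44352000 := by
    rw [Nat.card_congr φ.toEquiv, CfsgLib.Golay.HS.card_hsGroup]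
  have h := ncard_mul_card_stab (MulAction.stabilizer Co0 stdA ⊓ MulAction.stabilizer Co0 stdB) stdC
    (set352 stdA stdB) (fun g hg => smul_mem_set352 hg.1 hg.2 f4)
    (fun z hz => by
      obtain ⟨g, a, b, c⟩ := orbit_std z hz
      exact ⟨g, ⟨a, b⟩, c⟩)
  rw [ncard_set352 f1 f2 f3, hc] at h
  omega

theorem stab_equiv (hv : sqNorm (v : GolayPt → ℤ) = 48) (hw : sqNorm (w : GolayPt → ℤ) = 48)
    (hvw : dotInt (v : GolayPt → ℤ) w = -32) (hx : x ∈ set352 v w)
    (F : Type) [Field F] [Fintype F] (hF : Fintype.card F = 25) :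
    Nonempty (↥(MulAction.stabilizer Co0 v ⊓ MulAction.stabilizer Co0 w ⊓ MulAction.stabilizer Co0 x) ≃*
      PSU 3 F 5) := by
  obtain ⟨g, g1, g2, g3⟩ := exists_to_std hv hw hvw hx
  obtain ⟨e1⟩ := stab3_equiv g1 g2 g3
  have : Finite ↥(MulAction.stabilizer Co0 stdA ⊓ MulAction.stabilizer Co0 stdB ⊓
      MulAction.stabilizer Co0 stdC) := Nat.finite_of_card_ne_zero (by rw [card_stab]; norm_num)
  have hmem : ∀ i < 3, fixed.getD i [] ∈ fixed := fun i hi => by
    rw [List.getD_eq_getElem _ _ (by rw [std_gram.2.1]; omega)]; exact List.getElem_mem _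
  obtain ⟨e2⟩ := nonempty_stab_equiv gram_eq (MulAction.stabilizer Co0 stdA ⊓
    MulAction.stabilizer Co0 stdB ⊓ MulAction.stabilizer Co0 stdC) fixed
    (fun g h => ⟨⟨h _ (hmem 0 (by norm_num)), h _ (hmem 1 (by norm_num))⟩, h _ (hmem 2 (by norm_num))⟩)
    blocks blocks_length gens vecs_ok blocks_ok gens_ok gens_codes cert cert_ok card_stab.le
  obtain ⟨hc, a, ha⟩ := exists_gen_twentyfive hF
  have : CharP F par.p := hc
  obtain ⟨e3⟩ := UPar.nonempty_psu_equiv (U := par) ha hF (by decide) (by decide) pts pts_length codes words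
    pts_ok pts_iso cert cert_ok (by decide)
  exact ⟨(e1.trans e2).trans e3.symm⟩

theorem neg_mem (hv : sqNorm (w : GolayPt → ℤ) = 48)
    (hvw : dotInt (v : GolayPt → ℤ) w = -32) (hx : x ∈ set352 v w) : -w - x ∈ set352 v w := by
  obtain ⟨a, b, c⟩ := hx
  refine ⟨?_, ?_, ?_⟩
  · rw [AddSubgroup.coe_sub, AddSubgroup.coe_neg, ← neg_add', sqNorm_neg, sqNorm_add, hv, a, c]; norm_num
  · rw [AddSubgroup.coe_sub, AddSubgroup.coe_neg, dotInt_sub_right, dotInt_neg_right, hvw, b]; norm_num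
  · rw [AddSubgroup.coe_sub, AddSubgroup.coe_neg, dotInt_sub_right, dotInt_neg_right, dotInt_self, hv, c]
    norm_num

end CfsgLib.LeechPSU.U35
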