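import Cfsg.Agent.Lib.LeechPSU.U35OrbitData
import Cfsg.Agent.Lib.LeechPSU.U35Check

/-!
# A certificate that 352 vectors form one orbit
-/

set_option autoImplicit false
set_option maxRecDepth 20000

namespace CfsgLib.LeechPSU.U35Orbit

open Cfsg CfsgLib.Rigid CfsgLib.Leech

/-- The vectors. -/
noncomputable def vecs : List (List ℤ) := vecCodes.map decVec

/-- The matrices are automorphisms fixing the pair. -/
noncomputable def matOk (M : List (List ℤ) × List (List ℤ) × List (List ℤ)) : Bool :=
  Basis.autTest CfsgLib.Rigid.Co3.gram M.1 M.2.1 M.2.2 && rowsOk M.1 &&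
    moveOk (M.1.map packZ) (U35.fixed.getD 0 []) (U35.fixed.getD 0 []) &&
    moveOk (M.1.map packZ) (U35.fixed.getD 1 []) (U35.fixed.getD 1 [])

/-- Each vector is the image of an earlier one. -/
noncomputable def treeStep (i : ℕ) (e : ℕ × ℕ) : Bool :=
  decide (e.1 ≤ i) && decide (e.2 < mats.length) &&
    moveOk ((mats.getD e.2 ([], [], [])).1.map packZ) (fastGet vecs [] e.1) (fastGet vecs [] (i + 1))

/-- The keys are distinct. -/
noncomputable def distinctOk : List ℤ → Bool
  | [] => true
  | a :: l => (l.all fun b => !(a == b)) && distinctOk l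

theorem nodup_of_distinctOk : ∀ l : List ℤ, distinctOk l = true → l.Nodup := by
  intro l
  induction l with
  | nil => intro _; exact List.nodup_nil
  | cons a l ih =>
    intro h
    simp only [distinctOk, Bool.and_eq_true, List.all_eq_true, Bool.not_eq_true', beq_eq_false_iff_ne] at h
    exact List.nodup_cons.2 ⟨fun hm => h.1 a hm rfl, ih h.2⟩

theorem mats_ok : mats.all matOk = true := by decide +kernel

theorem vecs_ok : vecs.length = 352 ∧ vecs.getD 0 [] = U35.fixed.getD 2 [] ∧ tree.length = 351 ∧
    vecs.all (fun c => decide (c.length = 24)) = true ∧ distinctOk (vecs.map keyZ) = true := by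
  refine ⟨?_, ?_, ?_, ?_, ?_⟩ <;> decide +kernel

theorem tree_ok : (List.range 351).all (fun i => treeStep i (tree.getD i (0, 0))) = true := by
  decide +kernel

variable {B : Basis}

theorem exists_orbit (hG : ∀ i j, innerL (B.e i) (B.e j) = Basis.ent CfsgLib.Rigid.Co3.gram i j) :
    ∃ v : Fin 352 → leechLattice, Function.Injective v ∧ v 0 = vecB B (U35.fixed.getD 2 []) ∧
      ∀ i, ∃ g : Co0, g • vecB B (U35.fixed.getD 0 []) = vecB B (U35.fixed.getD 0 []) ∧
        g • vecB B (U35.fixed.getD 1 []) = vecB B (U35.fixed.getD 1 []) ∧ g • v 0 = v i := by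
  obtain ⟨hl, h0, -, hlen, hd⟩ := vecs_ok
  simp only [List.all_eq_true, decide_eq_true_eq] at hlen
  refine ⟨fun i => vecB B (vecs.getD i.val []), fun i j e => ?_, congrArg _ h0, fun i => ?_⟩
  · have hi : i.val < vecs.length := by have := i.isLt; omega
    have hj : j.val < vecs.length := by have := j.isLt; omega
    simp only [List.getD_eq_getElem _ _ hi, List.getD_eq_getElem _ _ hj] at e
    have e' := vecB_inj B (hlen _ (List.getElem_mem hi)) (hlen _ (List.getElem_mem hj)) e
    exact Fin.ext (((nodup_of_distinctOk _ hd).of_map _).getElem_inj_iff.1 e')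
  · obtain ⟨n, hn⟩ := i
    show ∃ g : Co0, _ ∧ _ ∧ g • vecB B (vecs.getD 0 []) = vecB B (vecs.getD n [])
    induction n using Nat.strong_induction_on with
    | _ n ih =>
      match n, hn, ih with
      | 0, _, _ => exact ⟨1, one_smul _ _, one_smul _ _, one_smul _ _⟩
      | k + 1, hn, ih =>
        have hs := List.all_eq_true.1 tree_ok k (List.mem_range.2 (by omega))
        simp only [treeStep, Bool.and_eq_true, decide_eq_true_eq] at hs
        obtain ⟨⟨hp, hk⟩, hmove⟩ := hs
        rw [fastGet_eq _ _ (by omega), fastGet_eq _ _ (by omega)] at hmove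
        obtain ⟨g, g0, g1, g2⟩ := ih (tree.getD k (0, 0)).1 (by omega) (by omega)
        rw [List.getD_eq_getElem _ _ hk] at hmove
        have hm := List.all_eq_true.1 mats_ok _ (List.getElem_mem hk)
        simp only [matOk, Bool.and_eq_true] at hm
        obtain ⟨⟨⟨ha, ht⟩, m0⟩, m1⟩ := hm
        obtain ⟨f, hf⟩ := B.exists_aut hG ha
        refine ⟨f * g, ?_, ?_, ?_⟩
        · rw [mul_smul, g0, smul_vecB hf ht m0]
        · rw [mul_smul, g1, smul_vecB hf ht m1]
        · rw [mul_smul, g2, smul_vecB hf ht hmove]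

end CfsgLib.LeechPSU.U35Orbit
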