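import Cfsg.Agent.Lib.LeechPSU.U43Data
import Cfsg.Agent.Lib.LeechPSU.Decode
import Cfsg.Agent.Lib.Rigid.McLCheck

/-!
# The kernel checks of the certificate of type U43
-/

set_option autoImplicit false
set_option maxRecDepth 20000

namespace CfsgLib.LeechPSU.U43

open CfsgLib.Rigid

/-- The vectors. -/
noncomputable def vecs : List (List ℤ) := vecCodes.map decVec

/-- The parameters. -/
def par : UPar := ⟨4,3,3,2,0⟩

/-- The points. -/
noncomputable def pts : List (List ℕ) := ptCodes.map (decPt par.n)

theorem vecs_ok : vecsOk vecs = true := by decide +kernel

theorem blocks_ok : blocksOk vecs.length blocks = true := by decide +kernel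

theorem blocks_length : blocks.length = 280 := by decide +kernel

theorem gens_ok : gens.all (genOk CfsgLib.Rigid.McL.gram fixed vecs blocks) = true := by decide +kernel

theorem gens_codes : gens.map Gen.pcode = codes := by rfl

theorem cert_ok : cert.ok 280 codes 3265920 = true := by decide +kernel

theorem pts_length : pts.length = 280 := by decide +kernel

theorem pts_ok : par.allOk pts codes words = true := by decide +kernel

theorem pts_iso : pts.all (fun w => Nat.beq (par.hermC w w) 0) = true := by decide +kernel

end CfsgLib.LeechPSU.U43
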