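import Cfsg.Agent.Lib.LeechPSU.U62Check

/-!
# The check of generator 1
-/

set_option autoImplicit false
set_option maxRecDepth 20000

namespace CfsgLib.LeechPSU.U62

open CfsgLib.Rigid

theorem gen1_ok :
    genOk CfsgLib.Rigid.Co2.gram fixed vecs blocks ⟨mat1N, mat1NI, mat1NG, vcode1, pcode1⟩ = true := by
  decide +kernel

end CfsgLib.LeechPSU.U62
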