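import Cfsg.Agent.Lib.LeechPSU.U62Check

/-!
# The check of the points
-/

set_option autoImplicit false
set_option maxRecDepth 20000

namespace CfsgLib.LeechPSU.U62

open CfsgLib.Rigid

theorem pts_ok : par.allOk pts codes words = true := by decide +kernel

theorem pts_iso : pts.all (fun w => Nat.beq (par.hermC w w) 0) = true := by decide +kernel

end CfsgLib.LeechPSU.U62
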