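import Cfsg.Agent.Lib.LeechPSU.U62CheckGen0
import Cfsg.Agent.Lib.LeechPSU.U62CheckGen1
import Cfsg.Agent.Lib.LeechPSU.U62CheckPts
import Cfsg.Agent.Lib.LeechPSU.U62CheckChain
import Cfsg.Agent.Lib.LeechPSU.Transfer
import Cfsg.Agent.Lib.Leech.ConwaySimple.Co2

/-!
# The stabiliser of two minimal vectors with dot product `-16` is `PSU(6, 2)`
-/

set_option autoImplicit false
set_option maxRecDepth 20000

namespace CfsgLib.LeechPSU.U62

open Cfsg CfsgLib.Leech CfsgLib.Rigid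
open CfsgLib.Leech.ConwaySimple (co2Stab card_co2Stab)

/-- The basis. -/
noncomputable def basis : Basis :=
  mkBasis CfsgLib.Rigid.Co2.tabE CfsgLib.Rigid.Co2.tabD CfsgLib.Rigid.Co2.gram CfsgLib.Rigid.Co2.table_ok

theorem gram_eq : ∀ i j, innerL (basis.e i) (basis.e j) = Basis.ent CfsgLib.Rigid.Co2.gram i j :=
  mkBasis_gram CfsgLib.Rigid.Co2.table_ok

/-- The first standard vector. -/
noncomputable def stdA : leechLattice := vecB basis (fixed.getD 0 [])

/-- The second standard vector. -/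
noncomputable def stdB : leechLattice := vecB basis (fixed.getD 1 [])

theorem std_gram : sizeOk CfsgLib.Rigid.Co2.gram = true ∧ fixed.length = 2 ∧
    (∀ c ∈ fixed, c.length = 24) ∧
    gramDot CfsgLib.Rigid.Co2.gram (fixed.getD 0 []) (fixed.getD 0 []) = 4 ∧
    gramDot CfsgLib.Rigid.Co2.gram (fixed.getD 1 []) (fixed.getD 1 []) = 4 ∧
    gramDot CfsgLib.Rigid.Co2.gram (fixed.getD 0 []) (fixed.getD 1 []) = -2 := by
  refine ⟨?_, ?_, ?_, ?_, ?_, ?_⟩ <;> decide +kernel

theorem std_facts : sqNorm (stdA : GolayPt → ℤ) = 32 ∧ sqNorm (stdB : GolayPt → ℤ) = 32 ∧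
    dotInt (stdA : GolayPt → ℤ) stdB = -16 := by
  obtain ⟨hs, hl, hlen, h00, h11, h01⟩ := std_gram
  have hl' : ∀ i < 2, (fixed.getD i []).length = 24 := fun i hi => by
    rw [List.getD_eq_getElem _ _ (by omega)]; exact hlen _ (List.getElem_mem _)
  have l0 := hl' 0 (by norm_num)
  have l1 := hl' 1 (by norm_num)
  refine ⟨?_, ?_, ?_⟩
  · rw [stdA, sqNorm_vecB gram_eq hs l0, h00]; norm_num
  · rw [stdB, sqNorm_vecB gram_eq hs l1, h11]; norm_num
  · rw [stdA, stdB, dot_vecB gram_eq hs l0 l1, h01]; norm_num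

variable {v w : leechLattice}

theorem exists_map16 (hv : sqNorm (v : GolayPt → ℤ) = 32) (hw : sqNorm (w : GolayPt → ℤ) = 32)
    (hd : dotInt (v : GolayPt → ℤ) w = -16) {v' w' : leechLattice} (hv' : sqNorm (v' : GolayPt → ℤ) = 32)
    (hw' : sqNorm (w' : GolayPt → ℤ) = 32) (hd' : dotInt (v' : GolayPt → ℤ) w' = -16) :
    ∃ g : Co0, g • v = v' ∧ g • w = w' :=
  exists_map_pair (exists_pair16 hv hw hd) (exists_pair16 hv' hw' hd')

theorem card_stab : Nat.card ↥(MulAction.stabilizer Co0 stdA ⊓ MulAction.stabilizer Co0 stdB) = 9196830720 := by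
  set S : Set leechLattice := {z | sqNorm (z : GolayPt → ℤ) = 32 ∧ dotInt (stdV : GolayPt → ℤ) z = -16} with hS
  have hn : S.ncard = 4600 := by
    rw [hS, ncard_subtype fun z => sqNorm z = 32 ∧ dotInt (stdV : GolayPt → ℤ) z = -16]
    exact ncard_base32.1
  obtain ⟨y, hy⟩ := Set.nonempty_of_ncard_ne_zero (s := S) (by omega)
  obtain ⟨f1, f2, f3⟩ := std_facts
  obtain ⟨g, g1, g2⟩ := exists_map16 f1 f2 f3 std_dots.2.1 hy.1 hy.2
  obtain ⟨e⟩ := stab2_equiv g1 g2
  rw [Nat.card_congr e.toEquiv]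
  have h := ncard_mul_card_stab co2Stab y S (fun k hk => ?_) (fun z hz => ?_)
  · rw [hn, card_co2Stab] at h
    show Nat.card ↥(co2Stab ⊓ MulAction.stabilizer Co0 y) = _
    omega
  · have d := dot_smul_co k stdV y
    rw [show k • stdV = stdV from hk] at d
    exact ⟨(sqNorm_smul_co k y).trans hy.1, d.trans hy.2⟩
  · obtain ⟨k, a, b⟩ := exists_map16 std_dots.2.1 hy.1 hy.2 std_dots.2.1 hz.1 hz.2
    exact ⟨k, a, b⟩

theorem gens_ok : gens.all (genOk CfsgLib.Rigid.Co2.gram fixed vecs blocks) = true := by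
  simp only [gens, List.all_cons, List.all_nil, gen0_ok, gen1_ok, Bool.and_self]

theorem stab_equiv (hv : sqNorm (v : GolayPt → ℤ) = 32) (hw : sqNorm (w : GolayPt → ℤ) = 32)
    (hd : dotInt (v : GolayPt → ℤ) w = -16) (F : Type) [Field F] [Fintype F] (hF : Fintype.card F = 4) :
    Nonempty (↥(MulAction.stabilizer Co0 v ⊓ MulAction.stabilizer Co0 w) ≃* PSU 6 F 2) := by
  obtain ⟨f1, f2, f3⟩ := std_facts
  obtain ⟨g, g1, g2⟩ := exists_map16 hv hw hd f1 f2 f3
  obtain ⟨e1⟩ := stab2_equiv g1 g2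
  have : Finite ↥(MulAction.stabilizer Co0 stdA ⊓ MulAction.stabilizer Co0 stdB) :=
    Nat.finite_of_card_ne_zero (by rw [card_stab]; norm_num)
  have hmem : ∀ i < 2, fixed.getD i [] ∈ fixed := fun i hi => by
    rw [List.getD_eq_getElem _ _ (by rw [std_gram.2.1]; omega)]; exact List.getElem_mem _
  obtain ⟨e2⟩ := nonempty_stab_equiv gram_eq (MulAction.stabilizer Co0 stdA ⊓ MulAction.stabilizer Co0 stdB)
    fixed (fun g h => ⟨h _ (hmem 0 (by norm_num)), h _ (hmem 1 (by norm_num))⟩)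
    blocks blocks_length gens vecs_ok blocks_ok gens_ok gens_codes cert cert_ok card_stab.le
  obtain ⟨hc, a, ha⟩ := exists_gen_four hF
  have : CharP F par.p := hc
  obtain ⟨e3⟩ := UPar.nonempty_psu_equiv (U := par) ha hF (by decide) (by decide) pts pts_length codes words
    pts_ok pts_iso cert cert_ok (by decide)
  exact ⟨(e1.trans e2).trans e3.symm⟩

end CfsgLib.LeechPSU.U62
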