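import Cfsg.Agent.Lib.LeechPSU.Perm
import Cfsg.Agent.Lib.LeechPSU.Field
import Cfsg.Agent.Lib.Classical.UnitaryPSU
import Cfsg.Agent.Lib.Rigid.Cert

/-!
# Projective special unitary groups as groups of permutations of isotropic points
-/

set_option autoImplicit false

namespace CfsgLib.LeechPSU

open Cfsg Matrix CfsgLib.Transvec CfsgLib.Transvec.Unitary CfsgLib.Classical.Unitary

/-- The parameters: dimension, Frobenius exponent, characteristic and the relation `α ^ 2 = s + t α`. -/
structure UPar where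
  /-- The dimension. -/
  n : ℕ
  /-- The Frobenius exponent. -/
  q : ℕ
  /-- The characteristic. -/
  p : ℕ
  /-- The constant coefficient. -/
  s : ℕ
  /-- The linear coefficient. -/
  t : ℕ

namespace UPar

variable (U : UPar)

/-- The Hermitian form on codes. -/
noncomputable def hermC (u v : List ℕ) : ℕ :=
  (List.range U.n).foldr
    (fun i r => addC U.p (mulC U.p U.s U.t (u.getD i 0) (powC U.p U.s U.t (v.getD i 0) U.q)) r) 0

/-- A transvection on codes. -/
noncomputable def tvC (vc : List ℕ × ℕ) (x : List ℕ) : List ℕ :=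
  (List.range U.n).map fun i =>
    addC U.p (x.getD i 0) (mulC U.p U.s U.t (mulC U.p U.s U.t vc.2 (U.hermC x vc.1)) (vc.1.getD i 0))

/-- The first non-zero position. -/
noncomputable def lead (w : List ℕ) : ℕ := ((List.range U.n).find? fun i => !Nat.beq (w.getD i 0) 0).getD U.n

/-- A point is normalised, isotropic and in range. -/
noncomputable def ptOk (w : List ℕ) : Bool :=
  decide (w.length = U.n) && (w.all fun a => decide (a < U.p * U.p)) && decide (U.lead w < U.n) &&
    Nat.beq (w.getD (U.lead w) 0) 1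

/-- A transvection is admissible. -/
noncomputable def tvOk (vc : List ℕ × ℕ) : Bool :=
  Nat.beq (U.hermC vc.1 vc.1) 0 && Nat.beq (addC U.p vc.2 (powC U.p U.s U.t vc.2 U.q)) 0

/-- A vector is a multiple of a normalised one. -/
noncomputable def lineOk (y w : List ℕ) : Bool :=
  decide (y.getD (U.lead w) 0 < U.p * U.p) && !Nat.beq (y.getD (U.lead w) 0) 0 &&
    (List.range U.n).all fun i =>
      Nat.beq (y.getD i 0) (mulC U.p U.s U.t (y.getD (U.lead w) 0) (w.getD i 0))

/-- The key of a point. -/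
noncomputable def key (w : List ℕ) : ℕ := w.foldr (fun a r => a + U.p * U.p * r) 0

/-- A word of transvections moves the points as a code says. -/
noncomputable def genOk (pts : List (List ℕ)) (P : ℕ) (word : List (List ℕ × ℕ)) : Bool :=
  word.all U.tvOk && (List.range pts.length).all fun a =>
    decide (fieldAt P a < pts.length) &&
      U.lineOk (word.foldr U.tvC (fastGet pts [] a)) (fastGet pts [] (fieldAt P a))

/-- The whole check. -/
noncomputable def allOk (pts : List (List ℕ)) (codes : List ℕ) (words : List (List (List ℕ × ℕ))) : Bool :=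
  fieldOk U.p U.s U.t && decide (1 < U.p) && pts.all U.ptOk && CfsgLib.Rigid.ndTest 60 (pts.map U.key) &&
    decide (codes.length = words.length) && (codes.zip words).all (fun z => U.genOk pts z.1 z.2) &&
    (words.flatten.any fun vc => !Nat.beq vc.2 0 && decide (vc.2 < U.p * U.p))

variable {F : Type*} [Field F]

/-- The line of a vector. -/
def line {n : ℕ} (v : Fin n → F) : Set (Fin n → F) := {x | ∃ a : F, x = a • v}

theorem line_smul {n : ℕ} (v : Fin n → F) {c : F} (hc : c ≠ 0) : line (c • v) = line v := by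
  ext x
  constructor
  · rintro ⟨a, rfl⟩; exact ⟨a * c, smul_smul a c v⟩
  · rintro ⟨a, rfl⟩; exact ⟨a * c⁻¹, by rw [smul_smul, inv_mul_cancel_right₀ hc]⟩

/-- The matrix of an element. -/
def matHom (n q : ℕ) : SU n F q →* Matrix (Fin n) (Fin n) F where
  toFun A := A.1.1
  map_one' := rfl
  map_mul' _ _ := rfl

theorem matHom_inv_mul {n q : ℕ} (A : SU n F q) : matHom n q A⁻¹ * matHom n q A = 1 := by
  rw [← map_mul, inv_mul_cancel, map_one]

theorem matHom_mul_inv {n q : ℕ} (A : SU n F q) : matHom n q A * matHom n q A⁻¹ = 1 := by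
  rw [← map_mul, mul_inv_cancel, map_one]

/-- The action of a matrix group on sets of vectors. -/
noncomputable def setHom (n q : ℕ) : SU n F q →* Equiv.Perm (Set (Fin n → F)) where
  toFun A :=
    { toFun := fun S => (fun x => matHom n q A *ᵥ x) '' S
      invFun := fun S => (fun x => matHom n q A⁻¹ *ᵥ x) '' S
      left_inv := fun S => by
        simp only [Set.image_image, Matrix.mulVec_mulVec, matHom_inv_mul, Matrix.one_mulVec, Set.image_id']
      right_inv := fun S => by
        simp only [Set.image_image, Matrix.mulVec_mulVec, matHom_mul_inv, Matrix.one_mulVec, Set.image_id'] }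
  map_one' := Equiv.ext fun S => by
    simp only [Equiv.coe_fn_mk, map_one, Matrix.one_mulVec, Set.image_id', Equiv.Perm.one_apply]
  map_mul' A B := Equiv.ext fun S => by
    simp only [Equiv.Perm.mul_apply, Equiv.coe_fn_mk, Set.image_image, Matrix.mulVec_mulVec, map_mul]

theorem setHom_line {n q : ℕ} (A : SU n F q) (v : Fin n → F) :
    setHom n q A (line v) = line (matHom n q A *ᵥ v) := by
  ext x
  show x ∈ (fun y => matHom n q A *ᵥ y) '' line v ↔ _
  constructor
  · rintro ⟨_, ⟨a, rfl⟩, rfl⟩; exact ⟨a, Matrix.mulVec_smul _ _ _⟩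
  · rintro ⟨a, rfl⟩; exact ⟨a • v, ⟨a, rfl⟩, Matrix.mulVec_smul _ _ _⟩

theorem mulVec_transvection (n q : ℕ) (v x : Fin n → F) (c : F) :
    unitaryTransvection n q v c *ᵥ x = x + (c * hermForm n F q x v) • v := by
  rw [unitaryTransvection, Matrix.add_mulVec, Matrix.one_mulVec, Matrix.smul_mulVec,
    Matrix.vecMulVec_mulVec, op_smul_eq_smul, smul_smul]
  congr 3
  exact dotProduct_comm _ _

theorem exists_su_transv {n q : ℕ} [Fintype F] (hF : Fintype.card F = q ^ 2) (hn : 3 ≤ n)
    (h32 : ¬(n = 3 ∧ q = 2)) {v : Fin n → F} (hv : hermForm n F q v v = 0) {c : F} (hc : c + c ^ q = 0) :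
    ∃ A : SU n F q, matHom n q A = unitaryTransvection n q v c := by
  obtain ⟨σ, hσ, hinv, hne⟩ := exists_frob hF
  have hu : uT (hermForm n F q) v c ∈ (suToGL (n := n) (F := F) (q := q)).range := by
    rw [range_suToGL hF hσ hinv hne hn h32]
    exact uT_mem (isUnitaryForm_hermForm hσ hinv hne) hv (by rw [hσ]; exact hc)
  obtain ⟨B, hB⟩ := hu
  refine ⟨B, ?_⟩
  show ((B : SpecialLinearGroup (Fin n) F) : Matrix (Fin n) (Fin n) F) = _
  rw [← suToGL_val, hB, coe_uT_hermForm hσ hinv hne hv]

theorem center_line {n q : ℕ} [Fintype F] (hF : Fintype.card F = q ^ 2) (hn : 3 ≤ n)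
    (h32 : ¬(n = 3 ∧ q = 2)) {z : SU n F q} (hz : z ∈ Subgroup.center (SU n F q))
    {c : F} (hc : c + c ^ q = 0) (hc0 : c ≠ 0) {v : Fin n → F} (hv : hermForm n F q v v = 0) :
    setHom n q z (line v) = line v := by
  by_cases hv0 : v = 0
  · subst hv0; rw [setHom_line, Matrix.mulVec_zero]
  obtain ⟨T, hT⟩ := exists_su_transv hF hn h32 hv hc
  obtain ⟨i, hi⟩ := Function.ne_iff.1 hv0
  set Z := matHom n q z with hZ
  have hcomm : unitaryTransvection n q v c * Z = Z * unitaryTransvection n q v c := by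
    rw [← hT, hZ, ← map_mul, ← map_mul, Subgroup.mem_center_iff.1 hz T]
  have hq : q ≠ 0 := fun h => by
    rw [h] at hF; simp at hF
  have hh : hermForm n F q (Pi.single i 1) v = (v i) ^ q := by
    rw [hermForm, Finset.sum_eq_single i (fun k _ hk => by rw [Pi.single_eq_of_ne hk, zero_mul])
      (fun h => absurd (Finset.mem_univ i) h), Pi.single_eq_same, one_mul]
  have h1 := congrArg (fun M : Matrix (Fin n) (Fin n) F => M *ᵥ Pi.single i 1) hcomm
  simp only [← Matrix.mulVec_mulVec, mulVec_transvection, Matrix.mulVec_add, Matrix.mulVec_smul, hh,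
    add_right_inj] at h1
  set a := c * (v i) ^ q with ha
  set b := c * hermForm n F q (Z *ᵥ Pi.single i 1) v
  have ha0 : a ≠ 0 := mul_ne_zero hc0 (pow_ne_zero q hi)
  have h2 : Z *ᵥ v = (a⁻¹ * b) • v := by
    rw [← smul_smul, h1, smul_smul, inv_mul_cancel₀ ha0, one_smul]
  have hb : a⁻¹ * b ≠ 0 := fun h => by
    rw [h, zero_smul] at h2
    have h3 := congrArg (fun x => matHom n q z⁻¹ *ᵥ x) h2
    simp only [hZ, Matrix.mulVec_mulVec, matHom_inv_mul, Matrix.one_mulVec, Matrix.mulVec_zero] at h3
    exact hv0 h3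
  rw [setHom_line, ← hZ, h2, line_smul v hb]

variable {U} [CharP F U.p] {α : F} (hp : 1 < U.p) (hα : α * α = (U.s : F) + (U.t : F) * α)
include hp hα

theorem herm_vecF (u v : List ℕ) :
    hermForm U.n F U.q (vecF U.p α U.n u) (vecF U.p α U.n v) = iota U.p α (U.hermC u v) := by
  have key : ∀ l : List ℕ, iota U.p α (l.foldr
      (fun i r => addC U.p (mulC U.p U.s U.t (u.getD i 0) (powC U.p U.s U.t (v.getD i 0) U.q)) r) 0) =
      (l.map fun i => iota U.p α (u.getD i 0) * iota U.p α (v.getD i 0) ^ U.q).sum := by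
    intro l
    induction l with
    | nil => simp [iota_zero]
    | cons i l ih => rw [List.foldr_cons, iota_add hp, iota_mul hp hα, iota_pow hp hα, ih, List.map_cons,
        List.sum_cons]
  rw [UPar.hermC, key, hermForm]
  simp only [vecF]
  rw [Fin.sum_univ_eq_sum_range fun i => iota U.p α (u.getD i 0) * iota U.p α (v.getD i 0) ^ U.q]
  rfl

theorem tvC_vecF (vc : List ℕ × ℕ) (x : List ℕ) :
    unitaryTransvection U.n U.q (vecF U.p α U.n vc.1) (iota U.p α vc.2) *ᵥ vecF U.p α U.n x =
      vecF U.p α U.n (U.tvC vc x) := by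
  funext i
  rw [mulVec_transvection, herm_vecF hp hα, Pi.add_apply, Pi.smul_apply, smul_eq_mul]
  show _ = iota U.p α ((U.tvC vc x).getD i.val 0)
  rw [UPar.tvC, List.getD_eq_getElem _ _ (by simp), List.getElem_map, List.getElem_range, iota_add hp,
    iota_mul hp hα, iota_mul hp hα]
  rfl

theorem exists_word [Fintype F] (hF : Fintype.card F = U.q ^ 2) (hn : 3 ≤ U.n)
    (h32 : ¬(U.n = 3 ∧ U.q = 2)) : ∀ word : List (List ℕ × ℕ), word.all U.tvOk = true →
      ∃ A : SU U.n F U.q, ∀ x : List ℕ, matHom U.n U.q A *ᵥ vecF U.p α U.n x =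
          vecF U.p α U.n (word.foldr U.tvC x) := by
  intro word
  induction word with
  | nil => intro _; exact ⟨1, fun x => by rw [map_one, Matrix.one_mulVec, List.foldr_nil]⟩
  | cons vc word ih =>
    intro h
    simp only [List.all_cons, Bool.and_eq_true, UPar.tvOk, Nat.beq_eq] at h
    obtain ⟨⟨h1, h2⟩, h3⟩ := h
    obtain ⟨A, hA⟩ := ih h3
    obtain ⟨T, hT⟩ := exists_su_transv (v := vecF U.p α U.n vc.1) (c := iota U.p α vc.2) hF hn h32
      (by rw [herm_vecF hp hα, h1, iota_zero])
      (by rw [← iota_pow hp hα, ← iota_add hp, h2, iota_zero])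
    refine ⟨T * A, fun x => ?_⟩
    rw [map_mul, ← Matrix.mulVec_mulVec, hA, hT, tvC_vecF hp hα,
      List.foldr_cons]

theorem line_eq_of_lineOk (hok : fieldOk U.p U.s U.t = true) {y w : List ℕ}
    (h : U.lineOk y w = true) : line (vecF U.p α U.n y) = line (vecF U.p α U.n w) := by
  simp only [UPar.lineOk, Bool.and_eq_true, decide_eq_true_eq, Bool.not_eq_true', List.all_eq_true,
    List.mem_range, Nat.beq_eq] at h
  obtain ⟨⟨hlt, hne⟩, hall⟩ := h
  have e : vecF U.p α U.n y = iota U.p α (y.getD (U.lead w) 0) • vecF U.p α U.n w := funext fun i => by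
    rw [Pi.smul_apply, smul_eq_mul]
    show iota U.p α _ = _ * iota U.p α _
    conv_lhs => rw [hall i.val i.isLt]
    exact iota_mul hp hα _ _
  rw [e, line_smul _ (iota_ne_zero hp hα hok hlt fun h0 => by rw [h0] at hne; exact Bool.noConfusion hne)]

omit [CharP F U.p] hp hα in
theorem lead_spec {w : List ℕ} (h : U.lead w < U.n) :
    ∀ j < U.lead w, w.getD j 0 = 0 := by
  unfold UPar.lead at h ⊢
  cases hf : (List.range U.n).find? fun i => !Nat.beq (w.getD i 0) 0 with
  | none => rw [hf] at h; simp at h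
  | some i =>
    intro j hj
    simp only [Option.getD_some] at hj
    rw [List.find?_range_eq_some] at hf
    have := hf.2.2 j hj
    simpa [Nat.beq_eq] using this

theorem line_inj (hok : fieldOk U.p U.s U.t = true) {w w' : List ℕ} (h : U.ptOk w = true)
    (h' : U.ptOk w' = true) (e : line (vecF U.p α U.n w) = line (vecF U.p α U.n w')) : w = w' := by
  simp only [UPar.ptOk, Bool.and_eq_true, decide_eq_true_eq, List.all_eq_true, Nat.beq_eq] at h h'
  obtain ⟨⟨⟨hl, hr⟩, hk⟩, h1⟩ := h
  obtain ⟨⟨⟨hl', hr'⟩, hk'⟩, h1'⟩ := h'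
  have hmem : vecF U.p α U.n w ∈ line (vecF U.p α U.n w') := e ▸ ⟨1, (one_smul F _).symm⟩
  obtain ⟨a, ha⟩ := hmem
  have hv : ∀ i < U.n, iota U.p α (w.getD i 0) = a * iota U.p α (w'.getD i 0) := fun i hi =>
    congrFun ha ⟨i, hi⟩
  have z : ∀ j < U.lead w, w.getD j 0 = 0 := lead_spec hk
  have z' : ∀ j < U.lead w', w'.getD j 0 = 0 := lead_spec hk'
  have a0 : a ≠ 0 := fun h0 => by
    have := hv _ hk
    rw [h0, zero_mul, h1, iota_one hp] at this
    exact one_ne_zero this
  have ekk : U.lead w = U.lead w' := by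
    rcases Nat.lt_trichotomy (U.lead w) (U.lead w') with h | h | h
    · have := hv _ hk
      rw [z' _ h, iota_zero, mul_zero, h1, iota_one hp] at this
      exact absurd this one_ne_zero
    · exact h
    · have := hv _ hk'
      rw [z _ h, iota_zero, h1', iota_one hp, mul_one] at this
      exact absurd this.symm a0
  have ha1 : a = 1 := by
    have := hv _ hk
    conv_rhs at this => rw [ekk]
    rw [h1, h1', iota_one hp, mul_one] at this
    exact this.symm
  refine List.ext_getElem (by omega) fun i hi hi' => ?_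
  have := hv i (hl ▸ hi)
  rw [ha1, one_mul, List.getD_eq_getElem _ _ hi, List.getD_eq_getElem _ _ hi'] at this
  exact iota_inj hp hα hok (hr _ (List.getElem_mem hi)) (hr' _ (List.getElem_mem hi')) this

omit hp in
theorem nonempty_psu_equiv [Fintype F] (hF : Fintype.card F = U.q ^ 2) (hn : 3 ≤ U.n)
    (h32 : ¬(U.n = 3 ∧ U.q = 2)) {m : ℕ} (pts : List (List ℕ)) (hm : pts.length = m) (codes : List ℕ)
    (words : List (List (List ℕ × ℕ))) (hall : U.allOk pts codes words = true)
    (hiso : pts.all (fun w => Nat.beq (U.hermC w w) 0) = true) {N : ℕ} (C : Cert)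
    (hC : C.ok m codes N = true)
    (hcard : CfsgLib.Classical.unitaryOrder U.q U.n = (U.q + 1) * (N * Nat.gcd U.n (U.q + 1))) :
    Nonempty (PSU U.n F U.q ≃* permGroup m codes) := by
  classical
  subst hm
  simp only [UPar.allOk, Bool.and_eq_true, decide_eq_true_eq, List.any_eq_true, Bool.not_eq_true'] at hall
  obtain ⟨⟨⟨⟨⟨⟨hok, hp⟩, hpt⟩, hnd⟩, hlen⟩, hgen⟩, vc, hvc, hc0, hclt⟩ := hall
  simp only [List.all_eq_true] at hpt hgen hiso
  obtain ⟨word, hword, hvcw⟩ := List.mem_flatten.1 hvc
  have hskew : iota U.p α vc.2 + iota U.p α vc.2 ^ U.q = 0 := by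
    obtain ⟨i, hi, rfl⟩ := List.mem_iff_getElem.1 hword
    have hz : (codes[i]'(hlen ▸ hi), words[i]) ∈ codes.zip words := by
      rw [← List.getElem_zip (h := by simp; omega)]
      exact List.getElem_mem _
    have := hgen _ hz
    simp only [UPar.genOk, Bool.and_eq_true, List.all_eq_true, UPar.tvOk, Nat.beq_eq] at this
    rw [← iota_pow hp hα, ← iota_add hp, (this.1 _ hvcw).2, iota_zero]
  have hc : iota U.p α vc.2 ≠ 0 := iota_ne_zero hp hα hok hclt fun h => by simp [h] at hc0
  have hcs := CfsgLib.Classical.card_su (n := U.n) hF (by omega)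
  have hcz := CfsgLib.Classical.card_center_su (n := U.n) hF (by omega)
  refine (nonempty_equiv_permGroup (setHom U.n U.q) (Subgroup.center (SU U.n F U.q))
    (fun a : Fin pts.length => line (vecF U.p α U.n pts[a.val])) (fun a b e => ?_) (fun z hz a => ?_)
    C hC (fun P hP => ?_) ?_).1
  · have := line_inj hp hα hok (hpt _ (List.getElem_mem _)) (hpt _ (List.getElem_mem _)) e
    have hnodup : pts.Nodup := (CfsgLib.Rigid.nodup_of_ndTest _ _ hnd).of_map _
    exact Fin.ext ((hnodup.getElem_inj_iff).1 this)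
  · refine center_line hF hn h32 hz hskew hc ?_
    have := hiso _ (List.getElem_mem (n := a.val) a.isLt)
    rw [Nat.beq_eq] at this
    rw [herm_vecF hp hα, this, iota_zero]
  · obtain ⟨i, hi, rfl⟩ := List.mem_iff_getElem.1 hP
    have hz : (codes[i], words[i]'(hlen ▸ hi)) ∈ codes.zip words := by
      rw [← List.getElem_zip (h := by simp; omega)]
      exact List.getElem_mem _
    have := hgen _ hz
    simp only [UPar.genOk, Bool.and_eq_true, List.all_eq_true, List.mem_range, decide_eq_true_eq] at this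
    obtain ⟨hw, himg⟩ := this
    obtain ⟨A, hA⟩ := exists_word hp hα hF hn h32 _ (List.all_eq_true.2 hw)
    refine ⟨A, fun a => ?_⟩
    obtain ⟨hb, hl⟩ := himg a.val a.isLt
    rw [fastGet_eq _ _ a.isLt, fastGet_eq _ _ hb] at hl
    refine ⟨⟨_, hb⟩, rfl, ?_⟩
    rw [setHom_line, hA, ← List.getD_eq_getElem pts [] a.isLt, line_eq_of_lineOk hp hα hok hl,
      List.getD_eq_getElem pts [] hb]
  · rw [hcz]
    exact (Nat.eq_of_mul_eq_mul_left (by omega) (hcs.trans hcard)).le

end UPar

end CfsgLib.LeechPSU
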